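import Mathlib

set_option autoImplicit false

namespace Cfsg.Agent.Alt

open Nat

theorem succ_pow_eight_le (k : ℕ) (hk : 44 ≤ k) : (k + 1) ^ 8 ≤ 2 ^ k := by
  induction k, hk using Nat.le_induction with
  | base => norm_num
  | succ k hk ih =>
    have h1 : 12 * (k + 1 + 1) ≤ 13 * (k + 1) := by omega
    have h2 : (12 * (k + 1 + 1)) ^ 8 ≤ (13 * (k + 1)) ^ 8 := Nat.pow_le_pow_left h1 8
    rw [mul_pow, mul_pow] at h2
    rw [pow_succ 2 k]
    generalize (k + 1 + 1) ^ 8 = A at *
    generalize (k + 1) ^ 8 = B at *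
    norm_num at h2
    omega

theorem sharp_main_inequality (n : ℕ) (hn : 968 ≤ n) :
    n * ((2 * n) ^ sqrt (2 * n) * 4 ^ (2 * n / 3) * (2 * n)) ≤ 4 ^ n := by
  set k := sqrt (2 * n) with hk
  have hk1 : k * k ≤ 2 * n := sqrt_le _
  have hk2 : 2 * n < (k + 1) * (k + 1) := lt_succ_sqrt _
  have hk44 : 44 ≤ k := by rw [hk, le_sqrt]; omega
  have h1 : (2 * n) ^ (k + 2) ≤ 4 ^ (n - 2 * n / 3) := by
    apply (Nat.pow_le_pow_iff_left (n := 3) (by norm_num)).mp
    calc ((2 * n) ^ (k + 2)) ^ 3 ≤ (((k + 1) * (k + 1)) ^ (k + 2)) ^ 3 := by gcongr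
      _ = (k + 1) ^ (6 * k + 12) := by rw [← sq, ← pow_mul, ← pow_mul]; congr 1; ring
      _ ≤ (k + 1) ^ (8 * k) := Nat.pow_le_pow_right (by omega) (by omega)
      _ ≤ (2 ^ k) ^ k := by rw [pow_mul]; exact Nat.pow_le_pow_left (succ_pow_eight_le k hk44) _
      _ ≤ 2 ^ (2 * ((n - 2 * n / 3) * 3)) := by
        rw [← pow_mul]; exact Nat.pow_le_pow_right (by omega) (by omega)
      _ = (4 ^ (n - 2 * n / 3)) ^ 3 := by rw [pow_mul, pow_mul]; rfl
  calc n * ((2 * n) ^ k * 4 ^ (2 * n / 3) * (2 * n))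
      ≤ (2 * n) * ((2 * n) ^ k * 4 ^ (2 * n / 3) * (2 * n)) := Nat.mul_le_mul_right _ (by omega)
    _ = (2 * n) ^ (k + 2) * 4 ^ (2 * n / 3) := by ring
    _ ≤ 4 ^ (n - 2 * n / 3) * 4 ^ (2 * n / 3) := Nat.mul_le_mul_right _ h1
    _ = 4 ^ n := by rw [← pow_add]; congr 1; omega

theorem small_part_le (n : ℕ) (n_pos : 0 < n) :
    ∏ p ∈ Finset.range (2 * n / 3 + 1), p ^ (centralBinom n).factorization p ≤
      (2 * n) ^ sqrt (2 * n) * 4 ^ (2 * n / 3) := by
  have n2_pos : 1 ≤ 2 * n := mul_pos (zero_lt_two' ℕ) n_pos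
  let S := {p ∈ Finset.range (2 * n / 3 + 1) | Nat.Prime p}
  let f x := x ^ n.centralBinom.factorization x
  have : ∏ x ∈ S, f x = ∏ x ∈ Finset.range (2 * n / 3 + 1), f x := by
    refine Finset.prod_filter_of_ne fun p _ h => ?_
    contrapose h; dsimp only [f]
    rw [factorization_eq_zero_of_not_prime n.centralBinom h, _root_.pow_zero]
  rw [← this, ← Finset.prod_filter_mul_prod_filter_not S (· ≤ sqrt (2 * n))]
  apply mul_le_mul'
  · refine (Finset.prod_le_prod' fun p _ => (?_ : f p ≤ 2 * n)).trans ?_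
    · exact pow_factorization_choose_le (mul_pos two_pos n_pos)
    have : (Finset.Icc 1 (sqrt (2 * n))).card = sqrt (2 * n) := by rw [card_Icc, Nat.add_sub_cancel]
    rw [Finset.prod_const]
    refine pow_right_mono₀ n2_pos ((Finset.card_le_card fun x hx => ?_).trans this.le)
    obtain ⟨h1, h2⟩ := Finset.mem_filter.1 hx
    exact Finset.mem_Icc.mpr ⟨(Finset.mem_filter.1 h1).2.one_lt.le, h2⟩
  · refine le_trans ?_ (primorial_le_four_pow (2 * n / 3))
    refine (Finset.prod_le_prod' fun p hp => (?_ : f p ≤ p)).trans ?_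
    · obtain ⟨h1, h2⟩ := Finset.mem_filter.1 hp
      refine (pow_right_mono₀ (Finset.mem_filter.1 h1).2.one_lt.le ?_).trans (pow_one p).le
      exact Nat.factorization_choose_le_one (sqrt_lt'.mp <| not_le.1 h2)
    refine Finset.prod_le_prod_of_subset_of_one_le' (Finset.filter_subset _ _) ?_
    exact fun p hp _ => (Finset.mem_filter.1 hp).2.one_lt.le

theorem sharp_bertrand_large (n : ℕ) (hn : 968 ≤ n) : ∃ p, p.Prime ∧ n < p ∧ p + 3 ≤ 2 * n := by
  by_contra hno
  push Not at hno
  have h1 : 4 ^ n < n * n.centralBinom := Nat.four_pow_lt_mul_centralBinom n (by omega)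
  have h2 : centralBinom n = ∏ p ∈ insert (2 * n - 1) (Finset.range (2 * n / 3 + 1)),
      p ^ (centralBinom n).factorization p := by
    refine (Eq.trans ?_ n.prod_pow_factorization_centralBinom).symm
    apply Finset.prod_subset
    · intro x hx
      simp only [Finset.mem_insert, Finset.mem_range] at hx ⊢
      omega
    intro x hx h2x
    simp only [Finset.mem_insert, Finset.mem_range, not_or] at hx h2x
    by_cases hp : x.Prime
    · by_cases hxn : x ≤ n
      · rw [factorization_centralBinom_of_two_mul_self_lt_three_mul (by omega) hxn (by omega),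
          Nat.pow_zero]
      · have h3 := hno x hp (by omega)
        have h4 := hp.eq_two_or_odd
        omega
    · rw [factorization_eq_zero_of_not_prime n.centralBinom hp, Nat.pow_zero]
  rw [Finset.prod_insert (by simp; omega)] at h2
  have h3 : (2 * n - 1) ^ (centralBinom n).factorization (2 * n - 1) ≤ 2 * n :=
    pow_factorization_choose_le (by omega)
  have h4 := small_part_le n (by omega)
  have h5 : centralBinom n ≤ (2 * n) ^ sqrt (2 * n) * 4 ^ (2 * n / 3) * (2 * n) := by
    rw [h2, mul_comm]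
    exact Nat.mul_le_mul h4 h3
  have h6 := sharp_main_inequality n hn
  have := Nat.mul_le_mul_left n h5
  omega

theorem sharp_bertrand (n : ℕ) (hn : 4 ≤ n) : ∃ p, p.Prime ∧ n < p ∧ p + 3 ≤ 2 * n := by
  by_cases h : 968 ≤ n
  · exact sharp_bertrand_large n h
  by_cases h1 : n < 5
  · exact ⟨5, by norm_num, by omega, by omega⟩
  by_cases h2 : n < 7
  · exact ⟨7, by norm_num, by omega, by omega⟩
  by_cases h3 : n < 11
  · exact ⟨11, by norm_num, by omega, by omega⟩
  by_cases h4 : n < 19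
  · exact ⟨19, by norm_num, by omega, by omega⟩
  by_cases h5 : n < 31
  · exact ⟨31, by norm_num, by omega, by omega⟩
  by_cases h6 : n < 59
  · exact ⟨59, by norm_num, by omega, by omega⟩
  by_cases h7 : n < 113
  · exact ⟨113, by norm_num, by omega, by omega⟩
  by_cases h8 : n < 223
  · exact ⟨223, by norm_num, by omega, by omega⟩
  by_cases h9 : n < 443
  · exact ⟨443, by norm_num, by omega, by omega⟩
  by_cases h10 : n < 883
  · exact ⟨883, by norm_num, by omega, by omega⟩
  exact ⟨1759, by norm_num, by omega, by omega⟩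

end Cfsg.Agent.Alt
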