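import Cfsg.Agent.Lib.Alt.ThreeCycle
import Cfsg.Agent.Lib.Pres.Basic

set_option autoImplicit false

namespace Cfsg.Agent.Alt

open Equiv Cfsg.Agent.Pres

theorem card_le_of_cosets {J : Type*} [Group J] (H K : Subgroup J) [Finite H] (C : Finset J)
    (h : ∀ g ∈ K, ∃ c ∈ C, c⁻¹ * g ∈ H) : Finite K ∧ Nat.card K ≤ C.card * Nat.card H := by
  choose c hc1 hc2 using h
  let f : K → C × H := fun g => (⟨c g g.2, hc1 g g.2⟩, ⟨_, hc2 g g.2⟩)
  have hf : Function.Injective f := by
    intro a b hab
    have h1 : c a a.2 = c b b.2 := congrArg (fun p : C × H => p.1.1) hab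
    have h2 : (c a a.2)⁻¹ * a = (c b b.2)⁻¹ * b := congrArg (fun p : C × H => p.2.1) hab
    rw [h1] at h2
    exact Subtype.ext (mul_left_cancel h2)
  refine ⟨Finite.of_injective f hf, ?_⟩
  simpa using Nat.card_le_card_of_injective f hf

theorem cosets_of_closure {J : Type*} [Group J] (H : Subgroup J) (S : Set J) (C : Finset J)
    (h1 : ∃ c ∈ C, c ∈ H) (hord : ∀ a ∈ S, ∃ n, a⁻¹ = a ^ n)
    (h : ∀ a ∈ S, ∀ c ∈ C, ∃ c' ∈ C, c'⁻¹ * a * c ∈ H) :
    ∀ g ∈ Subgroup.closure S, ∃ c ∈ C, c⁻¹ * g ∈ H := by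
  have step : ∀ a ∈ S, ∀ g, (∃ c ∈ C, c⁻¹ * g ∈ H) → ∃ c ∈ C, c⁻¹ * (a * g) ∈ H := by
    rintro a ha g ⟨c, hc, hg⟩
    obtain ⟨c', hc', h'⟩ := h a ha c hc
    refine ⟨c', hc', ?_⟩
    have := mul_mem h' hg
    simpa [mul_assoc] using this
  intro g hg
  induction hg using Subgroup.closure_induction_left with
  | one =>
    obtain ⟨c, hc, hcH⟩ := h1
    exact ⟨c, hc, by simpa using hcH⟩
  | mul_left a ha g _ ih => exact step a ha g ih
  | inv_mul_cancel a ha g _ ih =>
    obtain ⟨n, hn⟩ := hord a ha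
    rw [hn]
    clear hn
    induction n with
    | zero => simpa using ih
    | succ n ihn => rw [pow_succ', mul_assoc]; exact step a ha _ ihn

/-- Carmichael's relations bound the order of the generated group. -/
theorem carmichael_card {J ι : Type*} [Group J] (x : ι → J) (s : Finset ι)
    (h3 : ∀ i ∈ s, x i ^ 3 = 1) (h2 : ∀ i ∈ s, ∀ j ∈ s, i ≠ j → (x i * x j) ^ 2 = 1) :
    Finite (Subgroup.closure (x '' s)) ∧
      2 * Nat.card (Subgroup.closure (x '' s)) ≤ (s.card + 2).factorial := by
  classical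
  induction s using Finset.induction_on with
  | empty =>
    simp only [Finset.coe_empty, Set.image_empty, Subgroup.closure_empty]
    exact ⟨inferInstance, by simp⟩
  | insert i s hi ih =>
    obtain ⟨hfin, hcard⟩ := ih (fun j hj => h3 j (Finset.mem_insert_of_mem hj))
      (fun j hj k hk => h2 j (Finset.mem_insert_of_mem hj) k (Finset.mem_insert_of_mem hk))
    set H := Subgroup.closure (x '' s) with hH
    set y := x i with hy
    have hinv : ∀ j ∈ insert i s, (x j)⁻¹ = x j * x j := by
      intro j hj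
      rw [inv_eq_iff_mul_eq_one, ← h3 j hj]; simp [pow_succ, mul_assoc]
    have hrel : ∀ j ∈ insert i s, ∀ k ∈ insert i s, j ≠ k → x j * x k = (x k)⁻¹ * (x j)⁻¹ := by
      intro j hj k hk hjk
      rw [← mul_inv_rev, eq_inv_iff_mul_eq_one, ← sq, h2 j hj k hk hjk]
    have hmem : ∀ j ∈ s, x j ∈ H := fun j hj => Subgroup.subset_closure ⟨j, hj, rfl⟩
    have hyy : y⁻¹ = y * y := hinv i (Finset.mem_insert_self _ _)
    have hjy : ∀ j ∈ s, x j * y = y⁻¹ * (x j)⁻¹ := fun j hj =>
      hrel j (Finset.mem_insert_of_mem hj) i (Finset.mem_insert_self _ _)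
        (fun h => hi (h ▸ hj))
    have hyj : ∀ j ∈ s, y * x j = (x j)⁻¹ * y⁻¹ := fun j hj =>
      hrel i (Finset.mem_insert_self _ _) j (Finset.mem_insert_of_mem hj)
        (fun h => hi (h ▸ hj))
    let C : Finset J := insert 1 (insert y (insert y⁻¹ (s.image fun j => x j * y⁻¹)))
    have hC : C.card ≤ s.card + 3 := by
      have h1 := Finset.card_image_le (s := s) (f := fun j => x j * y⁻¹)
      have h2 := Finset.card_insert_le y⁻¹ (s.image fun j => x j * y⁻¹)
      have h3 := Finset.card_insert_le y (insert y⁻¹ (s.image fun j => x j * y⁻¹))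
      have h4 := Finset.card_insert_le 1 (insert y (insert y⁻¹ (s.image fun j => x j * y⁻¹)))
      simp only [C]; omega
    have m1 : (1 : J) ∈ C := by simp [C]
    have m2 : y ∈ C := by simp [C]
    have m3 : y⁻¹ ∈ C := by simp [C]
    have m4 : ∀ j ∈ s, x j * y⁻¹ ∈ C := by
      intro j hj
      simp only [C, Finset.mem_insert, Finset.mem_image]
      exact Or.inr (Or.inr (Or.inr ⟨j, hj, rfl⟩))
    have key := cosets_of_closure H (x '' (insert i s : Finset ι)) C ⟨1, m1, one_mem _⟩
      (by
        rintro _ ⟨j, hj, rfl⟩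
        exact ⟨2, by rw [hinv j hj, sq]⟩)
      (by
        rintro _ ⟨l, hl, rfl⟩ c hc
        simp only [C, Finset.mem_insert, Finset.mem_image] at hc
        rcases Finset.mem_insert.mp hl with rfl | hl
        · rcases hc with rfl | rfl | rfl | ⟨j, hj, rfl⟩
          · exact ⟨y, m2, by simp [← hy, one_mem]⟩
          · refine ⟨y⁻¹, m3, ?_⟩
            rw [← hy, mul_assoc, ← hyy, inv_inv, mul_inv_cancel]
            exact one_mem _
          · exact ⟨1, m1, by simp [← hy, one_mem]⟩
          · refine ⟨_, m4 j hj, ?_⟩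
            have : (x j * y⁻¹)⁻¹ * x l * (x j * y⁻¹) = (x j)⁻¹ := by
              have e1 := hyj j hj
              have e2 := hjy j hj
              have e3 := hinv j (Finset.mem_insert_of_mem hj)
              calc (x j * y⁻¹)⁻¹ * x l * (x j * y⁻¹)
                  = y * (x j)⁻¹ * (y * x j) * y⁻¹ := by rw [← hy]; group
                _ = y * ((x j)⁻¹ * (x j)⁻¹) * (y⁻¹ * y⁻¹) := by rw [e1]; group
                _ = y * (x j * y) := by
                    rw [← mul_inv_rev, ← mul_inv_rev, ← e3, ← hyy, inv_inv, inv_inv, mul_assoc]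
                _ = (x j)⁻¹ := by rw [e2]; group
            rw [this]
            exact inv_mem (hmem j hj)
        · rcases hc with rfl | rfl | rfl | ⟨j, hj, rfl⟩
          · exact ⟨1, m1, by simpa using hmem l hl⟩
          · refine ⟨y⁻¹, m3, ?_⟩
            rw [mul_assoc, hjy l hl]
            simpa using hmem l hl
          · exact ⟨_, m4 l hl, by simp [one_mem]⟩
          · by_cases hlj : l = j
            · subst hlj
              refine ⟨y, m2, ?_⟩
              have : y⁻¹ * x l * (x l * y⁻¹) = x l := by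
                calc y⁻¹ * x l * (x l * y⁻¹) = y⁻¹ * ((x l * x l) * y⁻¹) := by group
                  _ = x l := by
                    rw [← hinv l (Finset.mem_insert_of_mem hl), ← hyj l hl]; group
              rw [this]
              exact hmem l hl
            · refine ⟨_, m4 j hj, ?_⟩
              have e1 := hrel l (Finset.mem_insert_of_mem hl) j (Finset.mem_insert_of_mem hj) hlj
              have e3 := hinv j (Finset.mem_insert_of_mem hj)
              have : (x j * y⁻¹)⁻¹ * x l * (x j * y⁻¹) = (x j)⁻¹ * x l := by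
                calc (x j * y⁻¹)⁻¹ * x l * (x j * y⁻¹)
                    = y * (x j)⁻¹ * (x l * x j) * y⁻¹ := by group
                  _ = y * ((x j)⁻¹ * (x j)⁻¹) * ((x l)⁻¹ * y⁻¹) := by rw [e1]; group
                  _ = y * (x j * y) * x l := by
                    rw [← mul_inv_rev, ← e3, inv_inv, ← hyj l hl]; group
                  _ = (x j)⁻¹ * x l := by rw [hjy j hj]; group
              rw [this]
              exact mul_mem (inv_mem (hmem j hj)) (hmem l hl))
    obtain ⟨hf, hc⟩ := card_le_of_cosets H _ C key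
    refine ⟨hf, ?_⟩
    rw [Finset.card_insert_of_notMem hi, show s.card + 1 + 2 = (s.card + 2) + 1 by ring,
      Nat.factorial_succ]
    calc 2 * Nat.card (Subgroup.closure (x '' (insert i s : Finset ι)))
        ≤ 2 * ((s.card + 3) * Nat.card H) :=
          Nat.mul_le_mul_left _ (hc.trans (Nat.mul_le_mul_right _ hC))
      _ = (s.card + 2 + 1) * (2 * Nat.card H) := by ring
      _ ≤ _ := Nat.mul_le_mul_left _ hcard

theorem carmichael_card_range {J ι : Type*} [Group J] [Fintype ι] (x : ι → J)
    (h3 : ∀ i, x i ^ 3 = 1) (h2 : ∀ i j, i ≠ j → (x i * x j) ^ 2 = 1) :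
    Finite (Subgroup.closure (Set.range x)) ∧
      2 * Nat.card (Subgroup.closure (Set.range x)) ≤ (Fintype.card ι + 2).factorial := by
  have := carmichael_card x Finset.univ (fun i _ => h3 i) (fun i _ j _ => h2 i j)
  rwa [Finset.coe_univ, Set.image_univ] at this

theorem card_ne_ne {α : Type*} [Fintype α] [DecidableEq α] {u v : α} (uv : u ≠ v) :
    Fintype.card {i // i ≠ u ∧ i ≠ v} + 2 = Fintype.card α := by
  rw [Fintype.card_subtype]
  have : (Finset.univ.filter fun i => i ≠ u ∧ i ≠ v) = Finset.univ \ {u, v} := by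
    ext; simp
  rw [this, ← Finset.card_pair uv, Finset.card_sdiff_add_card_eq_card (Finset.subset_univ _),
    Finset.card_univ]

/-- Carmichael's presentation of the alternating group, as a universal property. -/
theorem exists_carmichael_hom {α : Type*} [Fintype α] [DecidableEq α] {u v : α} (uv : u ≠ v)
    {J : Type*} [Group J] (x : α → J) (h3 : ∀ i, i ≠ u → i ≠ v → x i ^ 3 = 1)
    (h2 : ∀ i j, i ≠ u → i ≠ v → j ≠ u → j ≠ v → i ≠ j → (x i * x j) ^ 2 = 1) :
    ∃ φ : alternatingGroup α →* J, ∀ i, i ≠ u → i ≠ v → φ (t3 i u v) = x i := by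
  let I := {i // i ≠ u ∧ i ≠ v}
  let y : I → alternatingGroup α × J := fun i => (t3 i.1 u v, x i.1)
  obtain ⟨hfin, hcard⟩ := carmichael_card_range y
    (fun i => Prod.ext (t3_pow_three i.2.1 i.2.2 uv) (h3 i i.2.1 i.2.2))
    (fun i j hij => Prod.ext
      (t3_mul_sq (fun h => hij (Subtype.ext h)) i.2.1 i.2.2 j.2.1 j.2.2 uv)
      (h2 i j i.2.1 i.2.2 j.2.1 j.2.2 (fun h => hij (Subtype.ext h))))
  set K := Subgroup.closure (Set.range y) with hK
  let p : K →* alternatingGroup α := (MonoidHom.fst _ _).comp K.subtype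
  have hp : Function.Surjective p := by
    rw [← MonoidHom.range_eq_top, MonoidHom.range_comp, Subgroup.range_subtype, hK,
      MonoidHom.map_closure, ← Set.range_comp]
    exact closure_star_t3 uv
  have : Nontrivial α := ⟨u, v, uv⟩
  have hb := hp.bijective_of_nat_card_le (by
    rw [card_ne_ne uv, ← Fintype.card_perm, ← Nat.card_eq_fintype_card,
      ← two_mul_nat_card_alternatingGroup] at hcard
    omega)
  let e := MulEquiv.ofBijective p hb
  refine ⟨((MonoidHom.snd _ _).comp K.subtype).comp e.symm.toMonoidHom, fun i iu iv => ?_⟩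
  have : e.symm (t3 i u v) = ⟨y ⟨i, iu, iv⟩, Subgroup.subset_closure ⟨_, rfl⟩⟩ := by
    rw [MulEquiv.symm_apply_eq]; rfl
  simp [this, y]

end Cfsg.Agent.Alt
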