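import Cfsg.Agent.Lib.Alt.PresBase

set_option autoImplicit false

namespace Cfsg.Agent.Alt

open Equiv

variable {α : Type*} [Fintype α] [DecidableEq α]

theorem cycleOn_pow_card {f : Perm α} {T : Finset α} (hf : f.IsCycleOn T) (hs : f.support ⊆ T) :
    f ^ T.card = 1 := by
  ext x
  by_cases hx : x ∈ T
  · exact hf.pow_card_apply hx
  · exact Perm.pow_apply_eq_self_of_apply_eq_self
      (Perm.notMem_support.mp fun h => hx (hs h)) _

theorem cycleOn_isCycle {f : Perm α} {T : Finset α} (hf : f.IsCycleOn T) (hs : f.support ⊆ T)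
    (hT : 2 ≤ T.card) : f.IsCycle ∧ f.support = T := by
  have hnt : (T : Set α).Nontrivial := by
    rw [Finset.nontrivial_coe, ← Finset.one_lt_card_iff_nontrivial]; omega
  have hsupp : f.support = T :=
    Finset.Subset.antisymm hs fun x hx => Perm.mem_support.mpr (hf.apply_ne hnt hx)
  obtain ⟨a, ha, -⟩ := hnt
  refine ⟨⟨a, hf.apply_ne (by
    rw [Finset.nontrivial_coe, ← Finset.one_lt_card_iff_nontrivial]; omega) ha, fun y hy => ?_⟩,
    hsupp⟩
  exact hf.2 ha (hs (Perm.mem_support.mpr hy))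

theorem cycleOn_sign {f : Perm α} {T : Finset α} (hf : f.IsCycleOn T) (hs : f.support ⊆ T)
    (hT : 2 ≤ T.card) : Perm.sign f = -(-1) ^ T.card := by
  obtain ⟨h1, h2⟩ := cycleOn_isCycle hf hs hT
  rw [h1.sign, h2]

theorem gen_aux {D : Perm α} {T : Finset α} (hD : D.IsCycleOn T) {x w : α}
    (hx : x ∈ T) (h1 : x ≠ D x) (h2 : x ≠ w) (h3 : D x ≠ w) (hcov : ∀ a, a ∈ T ∨ a = w)
    (hw : w = D (D x) ∨ D w = w) :
    alternatingGroup α ≤ Subgroup.closure {D ^ 2, c3 x (D x) w} := by
  let S : Set (Perm α) := Set.range fun i : ℕ => (D ^ 2) ^ i * c3 x (D x) w * ((D ^ 2) ^ i)⁻¹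
  have hS : Subgroup.closure S ≤ Subgroup.closure {D ^ 2, c3 x (D x) w} := by
    rw [Subgroup.closure_le]
    rintro _ ⟨i, rfl⟩
    have a1 : D ^ 2 ∈ Subgroup.closure {D ^ 2, c3 x (D x) w} := Subgroup.subset_closure (by simp)
    have a2 : c3 x (D x) w ∈ Subgroup.closure {D ^ 2, c3 x (D x) w} :=
      Subgroup.subset_closure (by simp)
    exact mul_mem (mul_mem (pow_mem a1 _) a2) (inv_mem (pow_mem a1 _))
  refine le_trans (closure_eq_alternating (S := S) ?_ ⟨_, 0, rfl⟩ x ?_).ge hS
  · rintro _ ⟨i, rfl⟩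
    have := c3_isThreeCycle h1 h2 h3
    unfold Perm.IsThreeCycle at this ⊢
    rwa [Perm.cycleType_conj]
  · let R : α → Prop := fun a => ∃ g ∈ Subgroup.closure S, g x = a
    have hR : ∀ (i : ℕ) (a : α), R (((D ^ 2) ^ i) a) ↔ R (((D ^ 2) ^ i) (c3 x (D x) w a)) := by
      intro i a
      have hm : (D ^ 2) ^ i * c3 x (D x) w * ((D ^ 2) ^ i)⁻¹ ∈ Subgroup.closure S :=
        Subgroup.subset_closure ⟨i, rfl⟩
      constructor
      · rintro ⟨g, hg, hga⟩
        exact ⟨_, mul_mem hm hg, by simp [hga]⟩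
      · rintro ⟨g, hg, hga⟩
        exact ⟨_, mul_mem (inv_mem hm) hg, by simp [hga]⟩
    have hR1 : ∀ i : ℕ, R (((D ^ 2) ^ i) x) ↔ R (((D ^ 2) ^ i) (D x)) := by
      intro i; have := hR i x; rwa [c3_apply_left h1 h3] at this
    have hR2 : ∀ i : ℕ, R (((D ^ 2) ^ i) (D x)) ↔ R (((D ^ 2) ^ i) w) := by
      intro i; have := hR i (D x); rwa [c3_apply_mid] at this
    have hR0 : R x := ⟨1, one_mem _, rfl⟩
    have hRw : R w := by simpa using (hR2 0).mp ((hR1 0).mp (by simpa using hR0))
    have hRi : ∀ i : ℕ, R (((D ^ 2) ^ i) x) := by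
      intro i
      rcases hw with hw | hw
      · induction i with
        | zero => simpa using hR0
        | succ i ih =>
          have := (hR2 i).mp ((hR1 i).mp ih)
          rw [hw] at this
          rw [pow_succ]
          simpa [sq] using this
      · refine (hR1 i).mpr ((hR2 i).mpr ?_)
        rw [← pow_mul, Perm.pow_apply_eq_self_of_apply_eq_self hw]
        exact hRw
    intro a
    rcases hcov a with ha | rfl
    · obtain ⟨n, -, rfl⟩ := hD.exists_pow_eq hx ha
      rcases Nat.even_or_odd' n with ⟨i, rfl | rfl⟩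
      · rw [pow_mul]; exact hRi i
      · rw [pow_succ, pow_mul]; exact (hR1 i).mp (hRi i)
    · exact hRw

/-- For either sign there is a permutation `D` such that `D²` and a 3-cycle generate the
alternating group. -/
theorem exists_sq_generator (h3 : 3 ≤ Fintype.card α) (ε : ℤˣ) :
    ∃ (D : Perm α) (a b c : α), Perm.sign D = ε ∧ a ≠ b ∧ a ≠ c ∧ b ≠ c ∧
      alternatingGroup α ≤ Subgroup.closure {D ^ 2, c3 a b c} := by
  by_cases hε : ε = -(-1) ^ Fintype.card α
  · obtain ⟨D, hD, hs⟩ := Finset.exists_cycleOn (Finset.univ : Finset α)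
    obtain ⟨x⟩ : Nonempty α := Fintype.card_pos_iff.mp (by omega)
    have hne : ∀ n, 0 < n → n < 3 → (D ^ n) x ≠ x := by
      intro n h0 hn h
      have := Nat.le_of_dvd h0 ((hD.pow_apply_eq (Finset.mem_univ x)).mp h)
      rw [Finset.card_univ] at this
      omega
    have h1 : x ≠ D x := by simpa using (hne 1 (by omega) (by omega)).symm
    have h2 : x ≠ D (D x) := by simpa [sq] using (hne 2 (by omega) (by omega)).symm
    have h3' : D x ≠ D (D x) := fun h => h1 (D.injective h)
    refine ⟨D, x, D x, D (D x), ?_, h1, h2, h3', gen_aux hD (Finset.mem_univ x) h1 h2 h3'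
      (fun a => Or.inl (Finset.mem_univ a)) (Or.inl rfl)⟩
    rw [cycleOn_sign hD hs (by rw [Finset.card_univ]; omega), hε, Finset.card_univ]
  · obtain ⟨u⟩ : Nonempty α := Fintype.card_pos_iff.mp (by omega)
    obtain ⟨D, hD, hs⟩ := Finset.exists_cycleOn (Finset.univ.erase u)
    have hc : (Finset.univ.erase u).card + 1 = Fintype.card α := by
      rw [Finset.card_erase_add_one (Finset.mem_univ u), Finset.card_univ]
    obtain ⟨x, hx⟩ : (Finset.univ.erase u).Nonempty := Finset.card_pos.mp (by omega)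
    have h1 : x ≠ D x := (hD.apply_ne (by
      rw [Finset.nontrivial_coe, ← Finset.one_lt_card_iff_nontrivial]; omega) hx).symm
    have hu : D u = u := Perm.notMem_support.mp fun h => by simpa using hs h
    have h2 : x ≠ u := Finset.ne_of_mem_erase hx
    have h3' : D x ≠ u := fun h => h2 (D.injective (h.trans hu.symm))
    refine ⟨D, x, D x, u, ?_, h1, h2, h3', gen_aux hD hx h1 h2 h3'
      (fun a => by by_cases h : a = u <;> simp [h]) (Or.inr hu)⟩
    rw [cycleOn_sign hD hs (by omega)]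
    rw [← hc, pow_succ] at hε
    rcases Int.units_eq_one_or ε with h | h <;>
      rcases Int.units_eq_one_or ((-1 : ℤˣ) ^ (Finset.univ.erase u).card) with h' | h' <;>
      simp_all

/-- The alternating group of `α` inside the alternating group of `α ⊕ β`. -/
def altInl (α β : Type*) [Fintype α] [DecidableEq α] [Fintype β] [DecidableEq β] :
    alternatingGroup α →* alternatingGroup (α ⊕ β) where
  toFun x := ⟨Perm.sumCongr x.1 1, by
    rw [Perm.mem_alternatingGroup, Perm.sign_sumCongr, map_one, mul_one]; exact x.2⟩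
  map_one' := Subtype.ext (by simp)
  map_mul' x y := Subtype.ext (by simp [Perm.sumCongr_mul])

variable {β : Type*} [Fintype β] [DecidableEq β]

theorem coe_altInl (x : alternatingGroup α) : (altInl α β x).1 = Perm.sumCongr x.1 1 := rfl

theorem altInl_t3 (a b c : α) : altInl α β (t3 a b c) = t3 (.inl a) (.inl b) (.inl c) := by
  apply Subtype.ext
  simp only [coe_altInl, t3, sq, ← Perm.sumCongr_swap_one, Perm.sumCongr_mul, mul_one]

theorem card_le_of_normal {J : Type*} [Group J] (N : Subgroup J) [N.Normal] [Finite N]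
    {S : Set J} {Y : J} (htop : Subgroup.closure (insert Y S) = ⊤) (hS : S ⊆ N) {m : ℕ}
    (hm : 0 < m) (hY : Y ^ m ∈ N) : Finite J ∧ Nat.card J ≤ m * Nat.card N := by
  have h1 : Subgroup.zpowers (QuotientGroup.mk' N Y) = ⊤ := by
    rw [eq_top_iff, ← MonoidHom.range_eq_top.mpr (QuotientGroup.mk'_surjective N),
      MonoidHom.range_eq_map, ← htop, Subgroup.map_le_iff_le_comap, Subgroup.closure_le]
    rintro x (rfl | hx)
    · exact Subgroup.mem_zpowers _
    · have : QuotientGroup.mk' N x = 1 := (QuotientGroup.eq_one_iff x).mpr (hS hx)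
      change QuotientGroup.mk' N x ∈ Subgroup.zpowers (QuotientGroup.mk' N Y)
      rw [this]; exact one_mem _
  have h2 : (QuotientGroup.mk' N Y) ^ m = 1 := by
    rw [← map_pow]; exact (QuotientGroup.eq_one_iff _).mpr hY
  have h3 : IsOfFinOrder (QuotientGroup.mk' N Y) := isOfFinOrder_iff_pow_eq_one.mpr ⟨m, hm, h2⟩
  have h4 : Finite (J ⧸ N) := by
    have := h3.finite_zpowers
    rw [h1] at this
    exact Set.finite_univ_iff.mp this
  refine ⟨Finite.of_equiv _ (Subgroup.groupEquivQuotientProdSubgroup (s := N)).symm, ?_⟩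
  rw [Subgroup.card_eq_card_quotient_mul_card_subgroup N]
  apply Nat.mul_le_mul_right
  rw [← Subgroup.card_top, ← h1, Nat.card_zpowers]
  exact orderOf_le_of_pow_eq_one hm h2

end Cfsg.Agent.Alt
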