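import Cfsg.Agent.Lib.Alt.NilpNum
import Cfsg.Agent.Lib.Alt.Sylow2

set_option autoImplicit false

namespace Cfsg.Agent.Alt

open Equiv Equiv.Perm MulAction

section General

variable {G : Type*} [Group G]

theorem exists_nilp_compl [Finite G] [Group.IsNilpotent G] {p : ℕ} [hp : Fact p.Prime]
    (P : Sylow p G) : ∃ H : Subgroup G, Subgroup.IsComplement' (P : Subgroup G) H ∧
      H ≤ Subgroup.centralizer ((P : Subgroup G) : Set G) := by
  obtain ⟨H, hH⟩ := Subgroup.exists_right_complement'_of_coprime P.card_coprime_index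
  refine ⟨H, hH, ?_⟩
  rw [← Subgroup.subgroupOf_eq_top, ← Subgroup.index_eq_one]
  by_contra h1
  obtain ⟨q, hq, hq1⟩ := Nat.exists_prime_and_dvd h1
  have := Fact.mk hq
  have hqp : q ≠ p := by
    rintro rfl
    refine P.not_dvd_index ?_
    rw [hH.symm.index_eq_card]
    exact hq1.trans (Subgroup.index_dvd_card _)
  obtain ⟨S⟩ : Nonempty (Sylow q H) := inferInstance
  obtain ⟨T, hT⟩ := (S.isPGroup'.map H.subtype).exists_le_sylow
  refine S.not_dvd_index (hq1.trans (Subgroup.index_dvd_of_le fun x hx y hy => ?_))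
  exact (Subgroup.commute_of_normal_of_disjoint _ _ inferInstance inferInstance
    (IsPGroup.disjoint_of_ne p q hqp.symm _ _ P.isPGroup' T.isPGroup') y x hy
    (hT ⟨x, hx, rfl⟩)).eq

theorem two_mul_card_le_of_lt [Finite G] {A B : Subgroup G} (h : A < B) :
    2 * Nat.card A ≤ Nat.card B := by
  obtain ⟨k, hk⟩ := Subgroup.card_dvd_of_le h.le
  have h1 : Nat.card A < Nat.card B := by
    by_contra h2
    exact h.ne (Subgroup.eq_of_le_of_card_ge h.le (not_lt.1 h2))
  rw [hk] at h1 ⊢
  have h2 : 1 < k := by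
    by_contra h3
    exact absurd h1 (not_lt.2 (by simpa using Nat.mul_le_mul_left (Nat.card A) (not_lt.1 h3)))
  rw [mul_comm]
  exact Nat.mul_le_mul_left _ h2

theorem orbit_hom_injective {β : Type*} [MulAction G β] [FaithfulSMul G β] [IsPretransitive G β]
    {A B : Subgroup G} (hc : ∀ x ∈ A, ∀ y ∈ B, x * y = y * x)
    (hAB : ∀ g : G, ∃ x ∈ A, ∃ y ∈ B, y * x = g) (a : β) :
    Function.Injective (MulAction.toPermHom A (orbit A a)) := by
  rw [injective_iff_map_eq_one]
  intro x hx
  apply Subtype.ext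
  apply eq_of_smul_eq_smul (α := β)
  intro b
  obtain ⟨g, rfl⟩ := exists_smul_eq G a b
  obtain ⟨u, hu, v, hv, rfl⟩ := hAB g
  have h1 : x.1 • u • a = u • a :=
    congrArg Subtype.val (DFunLike.congr_fun hx (⟨u • a, ⟨⟨u, hu⟩, rfl⟩⟩ : orbit A a))
  rw [Subgroup.coe_one, one_smul, mul_smul, smul_smul, hc _ x.2 _ hv, mul_smul, h1]

theorem card_ker_mul_card_range' {H : Type*} [Group H] (f : G →* H) :
    Nat.card f.ker * Nat.card f.range = Nat.card G := by
  rw [← Subgroup.index_ker, Subgroup.card_mul_index]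

theorem card_range_of_injective {H : Type*} [Group H] {f : G →* H} (hf : Function.Injective f) :
    Nat.card f.range = Nat.card G :=
  (Nat.card_congr (MonoidHom.ofInjective hf).toEquiv).symm

end General

/-- Restriction to an invariant subset. -/
def resHom {β : Type*} (N : Subgroup (Perm β)) (p : β → Prop)
    (h : ∀ g ∈ N, ∀ x, p (g x) ↔ p x) : N →* Perm {x // p x} where
  toFun g := g.1.subtypePerm (h g.1 g.2)
  map_one' := rfl
  map_mul' _ _ := rfl

theorem resHom_apply {β : Type*} {N : Subgroup (Perm β)} {p : β → Prop}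
    (h : ∀ g ∈ N, ∀ x, p (g x) ↔ p x) (g : N) (x : {x // p x}) :
    (resHom N p h g x).1 = g.1 x.1 := rfl

theorem sign_resHom {β : Type*} [Fintype β] [DecidableEq β] {N : Subgroup (Perm β)} {p : β → Prop}
    [DecidablePred p] (h : ∀ g ∈ N, ∀ x, p (g x) ↔ p x) (g : N) :
    sign g.1 = sign (resHom N p h g) *
      sign (resHom N (fun x => ¬ p x) (fun g hg x => not_congr (h g hg x)) g) := by
  rw [← sign_subtypeCongr]
  congr 1
  ext x
  by_cases hx : p x
  · rw [subtypeCongr.left_apply _ _ hx]; rfl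
  · rw [subtypeCongr.right_apply _ _ hx]; rfl

theorem resHom_ker_injective {β : Type*} {N : Subgroup (Perm β)} {p : β → Prop}
    (h : ∀ g ∈ N, ∀ x, p (g x) ↔ p x) : Function.Injective
      ((resHom N (fun x => ¬ p x) (fun g hg x => not_congr (h g hg x))).comp
        (resHom N p h).ker.subtype) := by
  rw [injective_iff_map_eq_one]
  intro g hg
  ext x
  by_cases hx : p x
  · exact congrArg Subtype.val (DFunLike.congr_fun (MonoidHom.mem_ker.1 g.2) ⟨x, hx⟩)
  · exact congrArg Subtype.val (DFunLike.congr_fun hg ⟨x, hx⟩)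

theorem orbit_invariant {β : Type*} (N : Subgroup (Perm β)) (a : β) :
    ∀ g ∈ N, ∀ x, g x ∈ orbit N a ↔ x ∈ orbit N a := fun g hg x =>
  ⟨fun h1 => pinv_apply g x ▸ mem_orbit_of_mem_orbit (⟨g, hg⟩⁻¹ : N) h1,
    fun h1 => mem_orbit_of_mem_orbit (⟨g, hg⟩ : N) h1⟩

universe u

theorem nil_bound_aux (n : ℕ) : ∀ (β : Type u) [Fintype β] [DecidableEq β],
    Fintype.card β = n → ∀ N : Subgroup (Perm β), Group.IsNilpotent N →
      Nat.card N ≤ nilF n ∧ (N ≤ alternatingGroup β → NilE n (Nat.card N)) := by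
  induction n using Nat.strong_induction_on with | _ n ih => ?_
  intro β _ _ hn N hN
  classical
  have ih' : ∀ (γ : Type u) [Fintype γ] [DecidableEq γ], Fintype.card γ < n →
      ∀ (G : Type u) [Group G] [Group.IsNilpotent G] (φ : G →* Perm γ),
      Nat.card φ.range ≤ nilF (Fintype.card γ) ∧
        (φ.range ≤ alternatingGroup γ → NilE (Fintype.card γ) (Nat.card φ.range)) :=
    fun γ _ _ h G _ _ φ => ih _ h γ rfl _
      (Group.nilpotent_of_surjective _ φ.rangeRestrict_surjective)
  have hdvd : Nat.card N ∣ n.factorial := by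
    have := Subgroup.card_subgroup_dvd_card N
    rwa [Nat.card_perm, Nat.card_eq_fintype_card (α := β), hn] at this
  by_cases h2 : ∀ p : ℕ, p.Prime → p ∣ Nat.card N → p = 2
  · have hk := Nat.eq_prime_pow_of_unique_prime_dvd Nat.card_pos.ne' (fun {d} => h2 d)
    generalize (Nat.card N).primeFactorsList.length = k at hk
    constructor
    · rw [hk] at hdvd ⊢
      exact (Nat.pow_le_pow_right two_pos ((Nat.prime_two.pow_dvd_iff_le_factorization
        (Nat.factorial_ne_zero n)).1 hdvd)).trans (two_pow_le_nilF n)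
    · intro hA
      by_cases h1 : 2 ≤ n
      · have h3 := Nat.mul_dvd_mul_left 2 (Subgroup.card_dvd_of_le hA)
        rw [two_mul_card_alt (hn ▸ h1), hn, hk, ← pow_succ'] at h3
        left
        rw [hk, ← pow_succ']
        exact (Nat.pow_le_pow_right two_pos ((Nat.prime_two.pow_dvd_iff_le_factorization
          (Nat.factorial_ne_zero n)).1 h3)).trans (two_pow_le_nilF n)
      · have h3 := Nat.le_of_dvd (Nat.factorial_pos n) hdvd
        have h4 : n = 0 ∨ n = 1 := by omega
        rcases h4 with rfl | rfl <;> simp_all [NilE]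
  push Not at h2
  obtain ⟨p, hp, hpd, hp2⟩ := h2
  have := Fact.mk hp
  have hn0 : 0 < n := lt_of_lt_of_le hp.pos (hp.dvd_factorial.1 (hpd.trans hdvd))
  obtain ⟨a⟩ : Nonempty β := Fintype.card_pos_iff.1 (hn ▸ hn0)
  by_cases htr : ∀ b, b ∈ orbit N a
  swap
  · push Not at htr
    obtain ⟨b, hb⟩ := htr
    have hinv := orbit_invariant N a
    have hc := Fintype.card_subtype_compl (fun x => x ∈ orbit N a)
    have hc1 : Fintype.card {x // x ∈ orbit N a} < n := hn ▸ Fintype.card_subtype_lt hb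
    have hc2 : Fintype.card {x // ¬ x ∈ orbit N a} < n :=
      hn ▸ Fintype.card_subtype_lt (x := a) (not_not.2 (mem_orbit_self a))
    have hc3 : n = Fintype.card {x // ¬ x ∈ orbit N a} + Fintype.card {x // x ∈ orbit N a} := by
      omega
    set φ₁ := resHom N _ hinv
    set φ₂ := resHom N (fun x => ¬ x ∈ orbit N a) (fun g hg x => not_congr (hinv g hg x))
    have h3 := card_ker_mul_card_range' φ₁
    rw [← card_range_of_injective (resHom_ker_injective hinv)] at h3
    have h4 := ih' _ hc1 N φ₁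
    have h5 := ih' _ hc2 N φ₂
    have h6 := ih' _ hc2 φ₁.ker (φ₂.comp φ₁.ker.subtype)
    rw [← h3, hc3]
    refine ⟨(Nat.mul_le_mul h6.1 h4.1).trans (nilF_mul_le _ _), fun hA => ?_⟩
    have hs : ∀ g : N, sign (φ₁ g) * sign (φ₂ g) = 1 := fun g =>
      (sign_resHom hinv g).symm.trans (mem_alternatingGroup.1 (hA g.2))
    have h7 : (φ₂.comp φ₁.ker.subtype).range ≤ alternatingGroup _ := by
      rintro _ ⟨g, rfl⟩
      have h8 := hs g.1
      rwa [MonoidHom.mem_ker.1 g.2, map_one, one_mul] at h8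
    by_cases h8 : φ₂.range ≤ alternatingGroup _
    · refine (h6.2 h7).mul (h4.2 ?_)
      rintro _ ⟨g, rfl⟩
      have h9 := hs g
      rwa [mem_alternatingGroup.1 (h8 ⟨g, rfl⟩), mul_one] at h9
    · have h9 : (φ₂.comp φ₁.ker.subtype).range < φ₂.range :=
        lt_of_le_of_ne (by rintro _ ⟨g, rfl⟩; exact ⟨g.1, rfl⟩) fun h => h8 (h ▸ h7)
      left
      rw [← mul_assoc]
      exact (Nat.mul_le_mul ((two_mul_card_le_of_lt h9).trans h5.1) h4.1).trans (nilF_mul_le _ _)
  have htr' : IsPretransitive N β := (isPretransitive_iff_base a).2 htr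
  obtain ⟨P⟩ : Nonempty (Sylow p N) := inferInstance
  obtain ⟨H, hH, hHC⟩ := exists_nilp_compl P
  by_cases hH1 : H = ⊥
  · rw [hH1, Subgroup.isComplement'_bot_right] at hH
    have h3 : IsPGroup p N := (hH ▸ P.isPGroup').of_equiv Subgroup.topEquiv
    obtain ⟨k, hk⟩ := h3.exists_card_eq
    obtain ⟨e, he⟩ := h3.card_orbit a
    rw [orbit_eq_univ, Nat.card_univ, Nat.card_eq_fintype_card, hn] at he
    rw [hk, he] at hdvd ⊢
    exact ⟨(nilE_odd hp hp2 hdvd).le, fun _ => nilE_odd hp hp2 hdvd⟩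
  have hP1 : (P : Subgroup N) ≠ ⊥ := P.ne_bot_of_dvd_card hpd
  have hcomm : ∀ x ∈ (P : Subgroup N), ∀ y ∈ H, x * y = y * x := fun x hx y hy => hHC hy x hx
  have hprod : ∀ g : N, ∃ x ∈ (P : Subgroup N), ∃ y ∈ H, x * y = g := fun g => by
    obtain ⟨⟨x, y⟩, h⟩ := hH.2 g
    exact ⟨x.1, x.2, y.1, y.2, h⟩
  have i1 := orbit_hom_injective hcomm (fun g => by
    obtain ⟨x, hx, y, hy, h⟩ := hprod g
    exact ⟨x, hx, y, hy, (hcomm x hx y hy).symm.trans h⟩) a
  have i2 := orbit_hom_injective (fun y hy x hx => (hcomm x hx y hy).symm) (fun g => by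
    obtain ⟨x, hx, y, hy, h⟩ := hprod g
    exact ⟨y, hy, x, hx, h⟩) a
  have hHn : H.Normal := ⟨fun y hy g => by
    obtain ⟨x, hx, z, hz, rfl⟩ := hprod g
    have h3 : z * y * z⁻¹ ∈ H := mul_mem (mul_mem hz hy) (inv_mem hz)
    have h4 : x * z * y * (x * z)⁻¹ = x * (z * y * z⁻¹) * x⁻¹ := by group
    rw [h4, hcomm x hx _ h3, mul_inv_cancel_right]
    exact h3⟩
  have two_le : ∀ A : Subgroup N, A ≠ ⊥ → Function.Injective (MulAction.toPermHom A (orbit A a)) →
      2 ≤ Fintype.card (orbit A a) := by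
    intro A hA hi
    by_contra h3
    have h4 : Subsingleton (orbit A a) := Fintype.card_le_one_iff_subsingleton.1 (by omega)
    have h5 := hi.subsingleton
    exact hA (Subgroup.eq_bot_of_subsingleton _)
  have dv : ∀ A : Subgroup N, A.Normal → Fintype.card (orbit A a) ∣ n := by
    intro A hA
    have h3 := (IsBlock.orbit_of_normal (N := A) a).ncard_dvd_card ⟨a, mem_orbit_self a⟩
    rwa [← Nat.card_coe_set_eq, Nat.card_eq_fintype_card, Nat.card_eq_fintype_card, hn] at h3
  have dv2 : ∀ A : Subgroup N, Fintype.card (orbit A a) ∣ Nat.card A := by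
    intro A
    rw [← Nat.card_eq_fintype_card, Nat.card_coe_set_eq, ← index_stabilizer]
    exact Subgroup.index_dvd_card _
  have hu := two_le _ hP1 i1
  have hs := two_le _ hH1 i2
  have hcop : (Fintype.card (orbit (P : Subgroup N) a)).Coprime (Fintype.card (orbit H a)) :=
    Nat.Coprime.coprime_dvd_left (dv2 _) (Nat.Coprime.coprime_dvd_right (dv2 _)
      (hH.symm.index_eq_card ▸ P.card_coprime_index))
  have hm := Nat.le_of_dvd hn0 (hcop.mul_dvd_of_dvd_of_dvd (dv _ inferInstance) (dv _ hHn))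
  have h3 := (ih' (orbit (P : Subgroup N) a) (by nlinarith) _
    (MulAction.toPermHom (P : Subgroup N) (orbit (P : Subgroup N) a))).1
  have h4 := (ih' (orbit H a) (by nlinarith) _ (MulAction.toPermHom H (orbit H a))).1
  rw [card_range_of_injective i1] at h3
  rw [card_range_of_injective i2] at h4
  have h5 : 2 * Nat.card N ≤ nilF n := by
    rw [← hH.card_mul_card]
    exact (Nat.mul_le_mul_left _ (Nat.mul_le_mul h3 h4)).trans (nilF_coprime hu hs hcop hm)
  exact ⟨by omega, fun _ => Or.inl h5⟩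

theorem nil_card_le {β : Type*} [Fintype β] [DecidableEq β] (N : Subgroup (Perm β))
    (hN : Group.IsNilpotent N) : Nat.card N ≤ nilF (Fintype.card β) :=
  (nil_bound_aux _ β rfl N hN).1

theorem nil_card_alt {β : Type*} [Fintype β] [DecidableEq β] (N : Subgroup (alternatingGroup β))
    (hN : Group.IsNilpotent N) : NilE (Fintype.card β) (Nat.card N) := by
  have e := N.equivMapOfInjective _ (alternatingGroup β).subtype_injective
  rw [Nat.card_congr e.toEquiv]
  exact (nil_bound_aux _ β rfl _ (Group.nilpotent_of_mulEquiv e)).2 (Subgroup.map_subtype_le _)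

theorem card_sylow_two_perm {β : Type*} [Fintype β] [DecidableEq β] (P : Sylow 2 (Perm β)) :
    Nat.card P = 2 ^ vF (Fintype.card β) := by
  rw [show Nat.card P = Nat.card (P : Subgroup (Perm β)) from rfl, P.card_eq_multiplicity,
    Nat.card_perm, Nat.card_eq_fintype_card, vF]

theorem card_sylow_two_alt {β : Type*} [Fintype β] [DecidableEq β] (h : 2 ≤ Fintype.card β)
    (P : Sylow 2 (alternatingGroup β)) : 2 * Nat.card P = 2 ^ vF (Fintype.card β) := by
  rw [show Nat.card P = Nat.card (P : Subgroup (alternatingGroup β)) from rfl,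
    P.card_eq_multiplicity, vF, ← two_mul_card_alt h,
    Nat.factorization_mul two_ne_zero Nat.card_pos.ne', Finsupp.add_apply,
    Nat.prime_two.factorization_self, pow_add, pow_one]

end Cfsg.Agent.Alt
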