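import Mathlib

set_option autoImplicit false

namespace Cfsg.Agent.Alt

open Nat

/-- The exponent of 2 in `n!`. -/
def vF (n : ℕ) : ℕ := (n.factorial).factorization 2

theorem vF_add_le (a b : ℕ) : vF a + vF b ≤ vF (a + b) := by
  have h := (Nat.factorization_le_iff_dvd
    (mul_ne_zero (factorial_ne_zero a) (factorial_ne_zero b)) (factorial_ne_zero _)).2
    (Nat.factorial_mul_factorial_dvd_factorial_add a b) 2
  rwa [Nat.factorization_mul (factorial_ne_zero a) (factorial_ne_zero b)] at h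

theorem vF_mono {a b : ℕ} (h : a ≤ b) : vF a ≤ vF b := by
  obtain ⟨c, rfl⟩ := Nat.exists_eq_add_of_le h
  exact (Nat.le_add_right _ _).trans (vF_add_le a c)

theorem vF_two_mul (k : ℕ) : vF (2 * k) = vF k + k := Nat.factorization_factorial_mul prime_two

theorem vF_succ (k : ℕ) : vF (k + 1) = (k + 1).factorization 2 + vF k := by
  rw [vF, factorial_succ, Nat.factorization_mul (succ_ne_zero k) (factorial_ne_zero k)]
  rfl

theorem vF_two_mul_add_one (k : ℕ) : vF (2 * k + 1) = vF k + k := by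
  rw [vF_succ, Nat.factorization_eq_zero_of_not_dvd (by omega), zero_add, vF_two_mul]

theorem vF_zero : vF 0 = 0 := by simp [vF]
theorem vF_one : vF 1 = 0 := by simp [vF]

theorem vF_four_mul (i : ℕ) : vF (4 * i) = vF i + 3 * i := by
  rw [show 4 * i = 2 * (2 * i) by ring, vF_two_mul, vF_two_mul]; ring

theorem vF_four_mul_add_one (i : ℕ) : vF (4 * i + 1) = vF (4 * i) := by
  rw [show 4 * i = 2 * (2 * i) by ring, vF_two_mul_add_one, vF_two_mul (2 * i)]

theorem vF_four_mul_add_two (i : ℕ) : vF (4 * i + 2) = vF (4 * i) + 1 := by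
  rw [show 4 * i + 2 = 2 * (2 * i + 1) by ring, vF_two_mul, vF_two_mul_add_one, vF_four_mul]; ring

theorem vF_four_mul_add_three (i : ℕ) : vF (4 * i + 3) = vF (4 * i) + 1 := by
  rw [show 4 * i + 3 = 2 * (2 * i + 1) + 1 by ring, vF_two_mul_add_one, vF_two_mul_add_one,
    vF_four_mul]; ring

theorem vF_two : vF 2 = 1 := by rw [vF_two_mul 1, vF_one]
theorem vF_three : vF 3 = 1 := by rw [vF_two_mul_add_one 1, vF_one]
theorem vF_four : vF 4 = 3 := by rw [vF_two_mul 2, vF_two]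
theorem vF_five : vF 5 = 3 := by rw [vF_two_mul_add_one 2, vF_two]
theorem vF_six : vF 6 = 4 := by rw [vF_two_mul 3, vF_three]
theorem vF_seven : vF 7 = 4 := by rw [vF_two_mul_add_one 3, vF_three]
theorem vF_eight : vF 8 = 7 := by rw [vF_two_mul 4, vF_four]

/-- The largest order of a nilpotent subgroup of the symmetric group of degree `n`. -/
def nilF (n : ℕ) : ℕ := 2 ^ (vF (n / 4) + 3 * (n / 4)) * max 1 (n % 4)

theorem nilF_of_ne {n : ℕ} (h : n % 4 ≠ 3) : nilF n = 2 ^ vF n := by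
  rw [nilF, ← vF_four_mul]
  conv_rhs => rw [← Nat.div_add_mod n 4]
  have : n % 4 = 0 ∨ n % 4 = 1 ∨ n % 4 = 2 := by omega
  rcases this with h | h | h <;> rw [h]
  · simp
  · simp [vF_four_mul_add_one]
  · simp [vF_four_mul_add_two, pow_succ]

theorem nilF_of_eq {n : ℕ} (h : n % 4 = 3) : nilF n = 3 * 2 ^ vF (n - 3) := by
  rw [nilF, ← vF_four_mul, h, show 4 * (n / 4) = n - 3 by omega, mul_comm]
  rfl

theorem two_pow_le_nilF (n : ℕ) : 2 ^ vF n ≤ nilF n := by
  by_cases h : n % 4 = 3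
  · rw [nilF_of_eq h]
    obtain ⟨i, rfl⟩ : ∃ i, n = 4 * i + 3 := ⟨n / 4, by omega⟩
    rw [vF_four_mul_add_three, Nat.add_sub_cancel, pow_succ]
    omega
  · exact (nilF_of_ne h).ge

theorem nilF_mul_le (a b : ℕ) : nilF a * nilF b ≤ nilF (a + b) := by
  simp only [nilF]
  have h1 := vF_add_le (a / 4) (b / 4)
  have h2 : a % 4 < 4 := Nat.mod_lt _ (by norm_num)
  have h3 : b % 4 < 4 := Nat.mod_lt _ (by norm_num)
  rw [mul_mul_mul_comm, ← pow_add]
  by_cases h : a % 4 + b % 4 < 4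
  · rw [show (a + b) / 4 = a / 4 + b / 4 by omega, show (a + b) % 4 = a % 4 + b % 4 by omega]
    refine Nat.mul_le_mul (Nat.pow_le_pow_right two_pos (by omega)) ?_
    generalize a % 4 = r at *
    generalize b % 4 = s at *
    interval_cases r <;> interval_cases s <;> simp_all
  · rw [show (a + b) / 4 = a / 4 + b / 4 + 1 by omega,
      show (a + b) % 4 = a % 4 + b % 4 - 4 by omega]
    have h4 := vF_mono (Nat.le_succ (a / 4 + b / 4))
    calc _ ≤ 2 ^ (vF (a / 4 + b / 4 + 1) + 3 * (a / 4 + b / 4)) *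
          (2 ^ 3 * max 1 (a % 4 + b % 4 - 4)) := by
          refine Nat.mul_le_mul (Nat.pow_le_pow_right two_pos (by
            simp only [Nat.succ_eq_add_one] at h4; omega)) ?_
          generalize a % 4 = r at *
          generalize b % 4 = s at *
          interval_cases r <;> interval_cases s <;> simp_all
      _ = _ := by rw [← mul_assoc, ← pow_add]; congr 2

theorem nilF_vals : nilF 0 = 1 ∧ nilF 1 = 1 ∧ nilF 2 = 2 ∧ nilF 3 = 3 ∧ nilF 4 = 8 ∧ nilF 5 = 8 ∧
    nilF 6 = 16 ∧ nilF 7 = 24 ∧ nilF 8 = 128 ∧ nilF 9 = 128 ∧ nilF 10 = 256 ∧ nilF 11 = 384 ∧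
    nilF 12 = 1024 ∧ nilF 14 = 2048 ∧ nilF 15 = 3072 ∧ nilF 18 = 65536 := by
  simp [nilF, vF_zero, vF_one, vF_two, vF_three, vF_four]

theorem nilF_pos (n : ℕ) : 0 < nilF n := lt_of_lt_of_le (by positivity) (two_pow_le_nilF n)

theorem nilF_mono {a b : ℕ} (h : a ≤ b) : nilF a ≤ nilF b := by
  obtain ⟨c, rfl⟩ := Nat.exists_eq_add_of_le h
  exact (Nat.le_mul_of_pos_right _ (nilF_pos c)).trans (nilF_mul_le a c)

theorem nilF_coprime {u s m : ℕ} (hu : 2 ≤ u) (hs : 2 ≤ s) (h : u.Coprime s) (hm : u * s ≤ m) :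
    2 * (nilF u * nilF s) ≤ nilF m := by
  refine le_trans ?_ (nilF_mono hm)
  obtain ⟨-, -, h2, h3, -, -, h6, -⟩ := nilF_vals
  by_cases h1 : u + s + 2 ≤ u * s
  · calc 2 * (nilF u * nilF s) ≤ nilF 2 * nilF (u + s) := by
          rw [h2]; exact Nat.mul_le_mul_left _ (nilF_mul_le u s)
      _ ≤ nilF (2 + (u + s)) := nilF_mul_le _ _
      _ ≤ _ := nilF_mono (by omega)
  · have h4 : u ≤ 3 := by nlinarith
    have h5 : s ≤ 3 := by nlinarith
    interval_cases u <;> interval_cases s <;> simp_all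

theorem two_mul_le_nilF {m : ℕ} (h : 7 ≤ m) : 2 * m ≤ nilF m := by
  induction m using Nat.strong_induction_on with | _ m ih => ?_
  obtain ⟨-, -, h2, -, -, -, -, h7, h8, -⟩ := nilF_vals
  by_cases h1 : m ≤ 8
  · interval_cases m <;> omega
  · obtain ⟨k, rfl⟩ : ∃ k, m = k + 2 := ⟨m - 2, by omega⟩
    have h3 := ih k (by omega) (by omega)
    have h4 := nilF_mul_le k 2
    rw [h2] at h4
    omega

theorem three_pow_le_nilF {m : ℕ} (h : 25 ≤ m) : 4 * 3 ^ (m - 1) ≤ nilF m ^ 2 := by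
  induction m using Nat.strong_induction_on with | _ m ih => ?_
  obtain ⟨-, -, -, -, -, -, -, -, h8, -⟩ := nilF_vals
  by_cases h1 : m ≤ 32
  · interval_cases m <;> simp [nilF, vF_six, vF_seven, vF_eight]
  · obtain ⟨k, rfl⟩ : ∃ k, m = k + 8 := ⟨m - 8, by omega⟩
    have h3 := ih k (by omega) (by omega)
    have h4 := Nat.pow_le_pow_left (nilF_mul_le k 8) 2
    rw [h8, mul_pow] at h4
    rw [show k + 8 - 1 = k - 1 + 8 by omega, pow_add]
    omega

/-- The bound for nilpotent groups of even permutations. -/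
def NilE (n c : ℕ) : Prop := 2 * c ≤ nilF n ∨ (n = 0 ∧ c ≤ 1) ∨ (n = 1 ∧ c ≤ 1) ∨ (n = 3 ∧ c ≤ 3) ∨
  (n = 5 ∧ c ≤ 5) ∨ (n = 6 ∧ c ≤ 9) ∨ (n = 9 ∧ c ≤ 81)

theorem NilE.le {n c : ℕ} (h : NilE n c) : c ≤ nilF n := by
  obtain ⟨h0, h1, h2, h3, h4, h5, h6, h7, h8, h9, -⟩ := nilF_vals
  rcases h with h | ⟨rfl, h⟩ | ⟨rfl, h⟩ | ⟨rfl, h⟩ | ⟨rfl, h⟩ | ⟨rfl, h⟩ | ⟨rfl, h⟩ <;> omega

theorem NilE.mul {a b c d : ℕ} (h1 : NilE a c) (h2 : NilE b d) : NilE (a + b) (c * d) := by
  have h3 := h1.le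
  have h4 := h2.le
  have h5 := nilF_mul_le a b
  by_cases h6 : 2 * c ≤ nilF a
  · exact Or.inl (le_trans (by rw [← mul_assoc]; exact Nat.mul_le_mul h6 h4) h5)
  by_cases h7 : 2 * d ≤ nilF b
  · exact Or.inl (le_trans (by rw [mul_left_comm]; exact Nat.mul_le_mul h3 h7) h5)
  obtain ⟨v0, v1, v2, v3, v4, v5, v6, v7, v8, v9, v10, v11, v12, v14, v15, v18⟩ := nilF_vals
  rcases h1.resolve_left h6 with ⟨rfl, h⟩ | ⟨rfl, h⟩ | ⟨rfl, h⟩ | ⟨rfl, h⟩ | ⟨rfl, h⟩ | ⟨rfl, h⟩ <;>
  rcases h2.resolve_left h7 with ⟨rfl, h'⟩ | ⟨rfl, h'⟩ | ⟨rfl, h'⟩ | ⟨rfl, h'⟩ | ⟨rfl, h'⟩ | ⟨rfl, h'⟩ <;>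
  · have := Nat.mul_le_mul h h'
    generalize c * d = e at *
    simp only [NilE, Nat.reduceAdd, true_and]
    omega

theorem sq_le_three_pow {p : ℕ} (h : 3 ≤ p) : p ^ 2 ≤ 3 ^ (p - 1) := by
  induction p, h using Nat.le_induction with
  | base => norm_num
  | succ k hk ih =>
    rw [show k + 1 - 1 = k - 1 + 1 by omega, pow_succ 3]
    nlinarith

/-- The bound for `p`-groups of degree a power of the odd prime `p`. -/
theorem nilE_odd {p a k : ℕ} (hp : p.Prime) (h2 : p ≠ 2) (hk : p ^ k ∣ (p ^ a).factorial) :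
    NilE (p ^ a) (p ^ k) := by
  have hp3 : 3 ≤ p := by have := hp.two_le; omega
  have h1 : k ≤ (p ^ a).factorial.factorization p :=
    (hp.pow_dvd_iff_le_factorization (factorial_ne_zero _)).1 hk
  have h3 : (p - 1) * (p ^ a).factorial.factorization p < p ^ a := by
    have := Fact.mk hp
    rw [Nat.factorization_def _ hp]
    exact sub_one_mul_padicValNat_factorial_lt_of_ne_zero p (pow_pos hp.pos a).ne'
  have h4 : (p - 1) * k < p ^ a := lt_of_le_of_lt (Nat.mul_le_mul_left _ h1) h3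
  have h5 : (p ^ k) ^ 2 ≤ 3 ^ (p ^ a - 1) := by
    calc (p ^ k) ^ 2 = (p ^ 2) ^ k := by rw [← pow_mul, ← pow_mul, mul_comm]
      _ ≤ (3 ^ (p - 1)) ^ k := Nat.pow_le_pow_left (sq_le_three_pow hp3) k
      _ ≤ _ := by rw [← pow_mul]; exact Nat.pow_le_pow_right (by norm_num) (by omega)
  by_cases h6 : 25 ≤ p ^ a
  · left
    have h7 := three_pow_le_nilF h6
    refine (Nat.pow_le_pow_iff_left two_ne_zero).1 ?_
    rw [mul_pow]
    omega
  rcases Nat.lt_or_ge a 2 with h7 | h7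
  · interval_cases a
    · have : k = 0 := by
        by_contra h8
        have : 2 * 1 ≤ (p - 1) * k := Nat.mul_le_mul (by omega) (by omega)
        simp at h4; omega
      subst this
      simp [NilE]
    · have h8 : k ≤ 1 := by
        by_contra h8
        have : (p - 1) * 2 ≤ (p - 1) * k := Nat.mul_le_mul_left _ (by omega)
        simp at h4; omega
      have h9 : p ^ k ≤ p := by
        simpa using Nat.pow_le_pow_right hp.pos h8
      rw [pow_one]
      by_cases h10 : 7 ≤ p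
      · exact Or.inl (le_trans (by omega) (two_mul_le_nilF h10))
      · have h11 : p = 3 ∨ p = 5 := by
          have := hp.eq_two_or_odd.resolve_left h2
          omega
        generalize p ^ k = c at *
        simp only [NilE]
        omega
  · have h8 : p ^ 2 ≤ p ^ a := Nat.pow_le_pow_right hp.pos h7
    have h9 : p = 3 := by
      have := hp.eq_two_or_odd.resolve_left h2
      by_contra h10
      have : 5 ^ 2 ≤ p ^ 2 := Nat.pow_le_pow_left (by omega) 2
      omega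
    subst h9
    have h10 : a = 2 := by
      by_contra h11
      have : 3 ^ 3 ≤ 3 ^ a := Nat.pow_le_pow_right (by norm_num) (by omega)
      omega
    subst h10
    have h11 : 3 ^ k ≤ 3 ^ 4 := Nat.pow_le_pow_right (by norm_num) (by omega)
    generalize 3 ^ k = c at *
    simp only [NilE]
    omega

end Cfsg.Agent.Alt
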