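import Mathlib

set_option autoImplicit false

namespace Cfsg.Agent.Alt

open Equiv Equiv.Perm

theorem mem_range_orderOf_alt {α : Type*} [Fintype α] [DecidableEq α] {k : ℕ} :
    k ∈ Set.range (orderOf : alternatingGroup α → ℕ) ↔ ∃ m : Multiset ℕ,
      m.sum ≤ Fintype.card α ∧ (∀ a ∈ m, 2 ≤ a) ∧ Even (m.sum + m.card) ∧ m.lcm = k := by
  constructor
  · rintro ⟨g, rfl⟩
    refine ⟨g.1.cycleType, g.1.sum_cycleType_le, fun a ha => two_le_of_mem_cycleType ha, ?_, ?_⟩
    · have h := mem_alternatingGroup.1 g.2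
      rw [sign_of_cycleType] at h
      exact (neg_one_pow_eq_one_iff_even (by decide)).1 h
    · rw [lcm_cycleType, Subgroup.orderOf_coe]
  · rintro ⟨m, h1, h2, h3, rfl⟩
    obtain ⟨g, rfl⟩ := (exists_with_cycleType_iff α).2 ⟨h1, h2⟩
    refine ⟨⟨g, mem_alternatingGroup.2 ?_⟩, ?_⟩
    · rw [sign_of_cycleType, h3.neg_one_pow]
    · rw [lcm_cycleType, ← Subgroup.orderOf_coe]

theorem exists_mem_dvd_of_prime_dvd_lcm {p : ℕ} (hp : p.Prime) {m : Multiset ℕ}
    (h : p ∣ m.lcm) : ∃ a ∈ m, p ∣ a := by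
  induction m using Multiset.induction_on with
  | empty => simp [hp.one_lt.ne'] at h
  | cons a s ih =>
    rw [Multiset.lcm_cons] at h
    rcases (hp.dvd_mul).1 (h.trans (Nat.lcm_dvd_mul _ _)) with h1 | h1
    · exact ⟨a, Multiset.mem_cons_self _ _, h1⟩
    · obtain ⟨b, hb, h2⟩ := ih h1
      exact ⟨b, Multiset.mem_cons_of_mem hb, h2⟩

theorem add_le_sum_of_ne {m : Multiset ℕ} {a b : ℕ} (ha : a ∈ m) (hb : b ∈ m) (hab : a ≠ b) :
    a + b ≤ m.sum := by
  obtain ⟨s, rfl⟩ := Multiset.exists_cons_of_mem ha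
  rw [Multiset.sum_cons]
  have h1 : b ∈ s := (Multiset.mem_cons.1 hb).resolve_left hab.symm
  have := Multiset.single_le_sum (fun x _ => Nat.zero_le x) b h1
  omega

/-- Enumeration of cycle types. -/
def chkTypes (good : ℕ → ℕ → Bool) : ℕ → ℕ → ℕ → ℕ → Bool
  | 0, _, l, e => good l e
  | f + 1, n, l, e => good l e &&
      (List.range (n + 1)).all fun a => a < 2 || chkTypes good f (n - a) (Nat.lcm l a) ((e + a + 1) % 2)

theorem chkTypes_sound (good : ℕ → ℕ → Bool) (m : Multiset ℕ) : ∀ f n l e,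
    chkTypes good f n l e = true → n ≤ f → e < 2 → m.sum ≤ n → (∀ a ∈ m, 2 ≤ a) →
    good (Nat.lcm l m.lcm) ((e + m.sum + m.card) % 2) = true := by
  induction m using Multiset.induction_on with
  | empty =>
    intro f n l e h _ he _ _
    have : good l e = true := by
      cases f with
      | zero => exact h
      | succ f => exact (Bool.and_eq_true_iff.1 h).1
    simpa [Nat.mod_eq_of_lt he] using this
  | cons a s ih =>
    intro f n l e h hf he hs h2
    rw [Multiset.sum_cons] at hs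
    have ha := h2 a (Multiset.mem_cons_self _ _)
    obtain ⟨f, rfl⟩ : ∃ f', f = f' + 1 := ⟨f - 1, by omega⟩
    have h3 := List.all_eq_true.1 (Bool.and_eq_true_iff.1 h).2 a (List.mem_range.2 (by omega))
    have h4 : chkTypes good f (n - a) (Nat.lcm l a) ((e + a + 1) % 2) = true := by
      simpa [not_lt.2 ha] using h3
    have h5 := ih _ _ _ _ h4 (by omega) (Nat.mod_lt _ two_pos) (by omega)
      (fun b hb => h2 b (Multiset.mem_cons_of_mem hb))
    rw [Multiset.lcm_cons, Multiset.sum_cons, Multiset.card_cons, lcm_eq_nat_lcm, ← Nat.lcm_assoc]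
    convert h5 using 2
    omega

end Cfsg.Agent.Alt
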