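import Cfsg.Agent.Lib.SL2.Solv

/-!
Pairs of `p`-elements of alternating groups: non-solvable generation.
-/

set_option autoImplicit false

namespace Cfsg.Agent.PElt

open Equiv Equiv.Perm Subgroup MulAction

variable {α ι : Type*} {p : ℕ}

/-- the conclusion for a pair of permutations -/
def Good (p : ℕ) {G : Type*} [Group G] (u w : G) : Prop :=
  (∀ k, (u * w) ^ p ^ k ≠ 1) ∧ ¬ Group.IsSolvable (closure ({u, w} : Set G))

/-- `u₀` is the restriction of `u` along `e` -/
def Md (e : ι → α) (u : Perm α) (u₀ : Perm ι) : Prop := ∀ i, u (e i) = e (u₀ i)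

theorem Md.mul {e : ι → α} {u w : Perm α} {u₀ w₀ : Perm ι} (h : Md e u u₀) (h' : Md e w w₀) :
    Md e (u * w) (u₀ * w₀) := fun i => by rw [mul_apply, h', h, mul_apply]

theorem Md.conj {e : ι → α} {u : Perm α} {u₀ : Perm ι} (h : Md e u u₀) (π : Perm ι) :
    Md (e ∘ π.symm) u (π * u₀ * π⁻¹) := fun i => by simp [h _]

theorem Good.of_md {e : ι → α} (he : Function.Injective e) {u w : Perm α} {u₀ w₀ : Perm ι}
    (hu : Md e u u₀) (hw : Md e w w₀) (h : Good p u₀ w₀) : Good p u w := by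
  let Γ : Subgroup (Perm α × Perm ι) :=
    { carrier := {x | Md e x.1 x.2}
      one_mem' := fun _ => rfl
      mul_mem' := Md.mul
      inv_mem' := fun {x} h i => by
        rw [Prod.fst_inv, Perm.inv_eq_iff_eq, h]; simp }
  have h1 : ∀ x ∈ Γ, x.1 = 1 → x.2 = 1 := fun x hx e => Equiv.ext fun i =>
    he (by rw [← hx, e]; rfl)
  refine ⟨fun k hk => h.1 k (h1 _ (pow_mem (show (u * w, u₀ * w₀) ∈ Γ from hu.mul hw) _) hk),
    fun hs => h.2 ?_⟩
  let K := closure ({(u, u₀), (w, w₀)} : Set (Perm α × Perm ι))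
  have h2 : K ≤ Γ := (closure_le _).2 (Set.insert_subset hu (Set.singleton_subset_iff.2 hw))
  have h3 : K.map (MonoidHom.fst _ _) = closure {u, w} := by
    rw [MonoidHom.map_closure, Set.image_pair]; rfl
  have h4 : K.map (MonoidHom.snd _ _) = closure {u₀, w₀} := by
    rw [MonoidHom.map_closure, Set.image_pair]; rfl
  rw [← h3] at hs
  haveI := Group.isSolvable_of_isSolvable_injective (f := (MonoidHom.fst (Perm α) (Perm ι)).subgroupMap K)
    ((injective_iff_map_eq_one _).2 fun x hx => Subtype.ext (Prod.ext (congrArg Subtype.val hx)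
      (h1 _ (h2 x.2) (congrArg Subtype.val hx))))
  rw [← h4]
  exact Group.isSolvable_of_surjective ((MonoidHom.snd _ _).subgroupMap_surjective K)

theorem Good.symm {G : Type*} [Group G] {u w g : G} (h : Good p w (g * u * g⁻¹)) :
    Good p u (g⁻¹ * w * g⁻¹⁻¹) := by
  refine ⟨fun k hk => h.1 k ?_, fun hs => h.2 ?_⟩
  · rw [show w * (g * u * g⁻¹) = g * u⁻¹ * (u * (g⁻¹ * w * g⁻¹⁻¹)) * (g * u⁻¹)⁻¹ by group, conj_pow,
      hk]; simp
  · have := MonoidHom.map_closure (MulAut.conj g).toMonoidHom {u, g⁻¹ * w * g⁻¹⁻¹}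
    rw [Set.image_pair] at this
    simp only [MulEquiv.coe_toMonoidHom, MulAut.conj_apply, inv_inv, ← mul_assoc, mul_inv_cancel,
      one_mul, mul_inv_cancel_right] at this
    rw [inv_inv] at hs
    rw [Set.pair_comm, ← this]
    exact Group.isSolvable_of_surjective (MonoidHom.subgroupMap_surjective _ _)

variable [Fintype α] [DecidableEq α]

theorem exists_even [Finite ι] [DecidableEq ι] {e e' : ι → α} (he : Function.Injective e)
    (he' : Function.Injective e') {u w : Perm α} {u₀ w₀ : Perm ι} (hu : Md e u u₀) (hw : Md e' w w₀)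
    {i j : ι} (hij : i ≠ j) (h : Good p u₀ w₀) (h' : Good p u₀ (swap i j * w₀ * (swap i j)⁻¹)) :
    ∃ g ∈ alternatingGroup α, Good p u (g * w * g⁻¹) := by
  have key : ∀ {e' : ι → α} {w₀ : Perm ι} (g : Perm α), Md e' w w₀ → (∀ i, g (e' i) = e i) →
      Good p u₀ w₀ → Good p u (g * w * g⁻¹) := fun g hw hg h =>
    h.of_md he hu fun i => by rw [← hg, mul_apply, mul_apply, Perm.coe_inv, symm_apply_apply, hw, hg]
  obtain ⟨g, hg⟩ := exists_extending_pair _ _ he' he
  obtain h1 | h1 := Int.units_eq_one_or (sign g)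
  · exact ⟨g, h1, key g hw hg h⟩
  refine ⟨g * swap (e' i) (e' j), by simp [h1, he'.ne hij], key _ (hw.conj _) (fun k => ?_) h'⟩
  rw [mul_apply, Function.comp, symm_swap, he'.swap_apply, swap_apply_self, hg]

omit [DecidableEq α] in
theorem exists_md [Fintype ι] {w : Perm α} {S : Finset α} (hS : ∀ x ∈ S, w x ∈ S)
    (hc : Fintype.card ι = S.card) {κ : Type*} [Finite κ] {v : κ → α} {L : κ → ι} (hv : Function.Injective v)
    (hL : Function.Injective L) (hvS : ∀ k, v k ∈ S) : ∃ (e : ι → α) (w₀ : Perm ι),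
      Function.Injective e ∧ Md e w w₀ ∧ ∀ k, e (L k) = v k := by
  obtain ⟨E⟩ : Nonempty (ι ≃ S) := Fintype.card_eq.1 (by simpa using hc)
  obtain ⟨π, hπ⟩ := exists_extending_pair L (fun k => E.symm ⟨v k, hvS k⟩) hL
    fun a b h => hv (congrArg Subtype.val (E.symm.injective h))
  let w' : Perm S := w.subtypePerm fun x => ⟨fun h => by
    obtain ⟨y, hy, e⟩ := Finset.surj_on_of_inj_on_of_card_le (fun x _ => w x) hS
      (fun _ _ _ _ h => w.injective h) le_rfl _ h
    rwa [w.injective e], hS x⟩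
  exact ⟨fun i => E (π i), (π.trans E).symm.permCongr w', fun a b h =>
    π.injective (E.injective (Subtype.ext h)), fun i => by simp [w'], fun k => by simp [hπ]⟩

/-- the cycle of a point -/
noncomputable def cyc (w : Perm α) (x : α) : Finset α := (Finset.range (period w x)).image fun i => (w ^ i) x

omit [Fintype α] [DecidableEq α] in
theorem pow_inj {w : Perm α} {x : α} {i j : ℕ} (hi : i < period w x) (hj : j < period w x)
    (h : (w ^ i) x = (w ^ j) x) : i = j := by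
  wlog e : i < j generalizing i j
  · exact (not_lt.1 e).eq_or_lt.elim Eq.symm fun e => (this hj hi h.symm e).symm
  obtain ⟨k, rfl⟩ := Nat.exists_eq_add_of_lt e
  rw [add_assoc, pow_add, mul_apply] at h
  exact absurd ((w ^ i).injective h).symm (pow_smul_ne_of_lt_period (m := w) (a := x) (by omega) (by omega))

omit [Fintype α] in
theorem card_cyc (w : Perm α) (x : α) : (cyc w x).card = period w x := by
  rw [cyc, Finset.card_image_of_injOn fun i hi j hj => pow_inj (by simpa using hi) (by simpa using hj),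
    Finset.card_range]

theorem pow_mem_cyc (w : Perm α) (x : α) (n : ℕ) : (w ^ n) x ∈ cyc w x :=
  Finset.mem_image.2 ⟨_, Finset.mem_range.2 (Nat.mod_lt n (period_pos_of_orderOf_pos
    (orderOf_pos w) x)), pow_mod_period_smul (m := w) (a := x) n⟩

theorem apply_mem_cyc (w : Perm α) (x : α) : ∀ y ∈ cyc w x, w y ∈ cyc w x := fun y hy => by
  obtain ⟨i, -, rfl⟩ := Finset.mem_image.1 hy
  simpa only [pow_succ', mul_apply] using pow_mem_cyc w x (i + 1)

theorem disjoint_cyc {w : Perm α} {S : Finset α} (hS : ∀ x ∈ S, w x ∈ S) {x : α} (hx : x ∉ S) :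
    Disjoint S (cyc w x) := Finset.disjoint_left.2 fun y hy h => by
  obtain ⟨i, -, rfl⟩ := Finset.mem_image.1 h
  have h1 : ∀ n, ∀ z ∈ S, (w ^ n) z ∈ S := fun n => by
    induction n with
    | zero => simp
    | succ n ih => exact fun z hz => by rw [pow_succ, mul_apply]; exact ih _ (hS z hz)
  have := h1 (i * (orderOf w - 1)) _ hy
  rw [← mul_apply, ← pow_add, ← Nat.mul_succ, Nat.succ_eq_add_one, Nat.sub_add_cancel (orderOf_pos w),
    mul_comm, pow_mul, pow_orderOf_eq_one, one_pow] at this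
  exact hx this

theorem greedy (hp : p.Prime) {w : Perm α} {a m : ℕ} (hw : w ^ p ^ a = 1) (hm : orderOf w ∣ m)
    (hn : m ≤ Fintype.card α) {S : Finset α} (hS : ∀ x ∈ S, w x ∈ S) (h1 : S.card ≤ m)
    (h2 : ∀ x ∉ S, period w x ∣ S.card) : ∃ T, S ⊆ T ∧ (∀ x ∈ T, w x ∈ T) ∧ T.card = m := by
  induction hk : m - S.card using Nat.strong_induction_on generalizing S with
  | _ k ih =>
  obtain e | e := h1.eq_or_lt
  · exact ⟨S, subset_rfl, hS, e⟩
  obtain ⟨x, hx, h3⟩ := Finset.exists_max_image Sᶜ (period w)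
    (Finset.card_pos.1 (by rw [Finset.card_compl]; omega))
  rw [Finset.mem_compl] at hx
  have h4 := Finset.card_union_of_disjoint (disjoint_cyc hS hx)
  have h5 := period_pos_of_orderOf_pos (orderOf_pos w) x
  have h6 : ∀ y : α, ∃ i, period w y = p ^ i := fun y => by
    obtain ⟨i, -, h⟩ := (Nat.dvd_prime_pow hp).1
      ((period_dvd_orderOf w y).trans (orderOf_dvd_of_pow_eq_one hw))
    exact ⟨i, h⟩
  rw [card_cyc] at h4
  have h7 := Nat.le_of_dvd (by omega) (Nat.dvd_sub ((period_dvd_orderOf w x).trans hm) (h2 x hx))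
  obtain ⟨T, a1, a2⟩ := ih _ (by omega) (S := S ∪ cyc w x) (fun y hy => Finset.mem_union.2
    ((Finset.mem_union.1 hy).imp (hS y) (apply_mem_cyc w x y))) (by omega) (fun y hy => by
      rw [Finset.mem_union, not_or] at hy
      obtain ⟨i, hi⟩ := h6 x
      obtain ⟨j, hj⟩ := h6 y
      have := h3 y (Finset.mem_compl.2 hy.1)
      rw [h4]
      refine dvd_add (h2 y hy.1) ?_
      rw [hi, hj] at this ⊢
      exact pow_dvd_pow p ((Nat.pow_le_pow_iff_right hp.one_lt).1 this)) rfl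
  exact ⟨T, Finset.subset_union_left.trans a1, a2⟩

theorem exists_period (hp : p.Prime) {w : Perm α} {a : ℕ} (hw : orderOf w = p ^ (a + 1)) :
    ∃ x : α, period w x = p ^ (a + 1) := by
  by_contra! h
  have : w ^ p ^ a = 1 := Equiv.ext fun x => pow_smul_eq_iff_period_dvd.2 (by
    obtain ⟨i, h1, h2⟩ := (Nat.dvd_prime_pow hp).1 (hw ▸ period_dvd_orderOf w x)
    exact h2 ▸ pow_dvd_pow p (Nat.le_of_lt_succ (h1.lt_of_ne fun e => h x (e ▸ h2))))
  exact absurd ((Nat.pow_dvd_pow_iff_le_right hp.one_lt).1 (hw ▸ orderOf_dvd_of_pow_eq_one this))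
    (by omega)

omit [Fintype α] [DecidableEq α] in
theorem md_cycle {u : Perm α} {x : α} {m : ℕ} [NeZero m] (h : period u x = m) :
    ∃ e : ZMod m → α, Function.Injective e ∧ Md e u (Equiv.addRight 1) := by
  refine ⟨fun i => (u ^ i.val) x, fun i j e => ZMod.val_injective m
    (pow_inj (h ▸ i.val_lt) (h ▸ j.val_lt) e), fun i => ?_⟩
  obtain ⟨i, rfl⟩ := ZMod.natCast_zmod_surjective i
  have := fun n => pow_mod_period_smul (m := u) (a := x) n
  simp only [h, Perm.smul_def] at this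
  simp only [Equiv.coe_addRight]
  rw [← Nat.cast_succ, ZMod.val_natCast, ZMod.val_natCast, this, this, pow_succ',
    mul_apply]

theorem comm_of_solvable (hp : p.Prime) {a : ℕ} {K : Subgroup (Perm (ZMod (p ^ a)))}
    (hK : Group.IsSolvable K) (hu : Equiv.addRight 1 ∈ K) {k : Perm (ZMod (p ^ a))} (hk : k ∈ K)
    {s e c : ZMod (p ^ a)} (he : p • e = 0) (hc : p • c = 0) (h : k (s + e) = k s + c) :
    k (s + e + e) = k s + c + c := by
  haveI := Fact.mk hp
  haveI : NeZero (p ^ a) := ⟨pow_ne_zero _ hp.ne_zero⟩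
  obtain h0 | h0 := subsingleton_or_nontrivial K
  · obtain rfl : k = 1 := congrArg Subtype.val (Subsingleton.elim (⟨k, hk⟩ : K) 1)
    rw [add_left_cancel (a := s) h]; rfl
  have a0 : ∀ (t : ZMod (p ^ a)) (n : ℕ), Equiv.addRight t ^ n = Equiv.addRight (n * t) := fun t n => by
    induction n with
    | zero => ext; simp
    | succ n ih => ext; simp [pow_succ, ih]; ring
  have a1 : ∀ t : ZMod (p ^ a), Equiv.addRight t ∈ K := fun t => by
    obtain ⟨n, rfl⟩ := ZMod.natCast_zmod_surjective t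
    simpa [a0] using pow_mem hu n
  obtain ⟨A, hA, hA0, hAc⟩ := SL2.exists_abelian_normal K
  obtain ⟨r, hr, h1⟩ := Nat.exists_prime_and_dvd (mt card_eq_one.1 hA0)
  haveI := Fact.mk hr
  let B : Subgroup K :=
    { carrier := {x | x ∈ A ∧ x ^ r = 1}
      one_mem' := ⟨one_mem _, one_pow _⟩
      mul_mem' := fun {x y} hx hy => ⟨mul_mem hx.1 hy.1, by
        rw [Commute.mul_pow (hAc x hx.1 y hy.1), hx.2, hy.2, one_mul]⟩
      inv_mem' := fun {x} hx => ⟨inv_mem hx.1, by rw [inv_pow, hx.2, inv_one]⟩ }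
  haveI hB : B.Normal := ⟨fun x hx g => ⟨hA.conj_mem x hx.1 g, by rw [conj_pow, hx.2]; simp⟩⟩
  have a2 : IsPGroup r B := fun x => ⟨1, Subtype.ext (by simpa using x.2.2)⟩
  obtain ⟨b, hb⟩ := exists_prime_orderOf_dvd_card' r h1
  let b' : B := ⟨b, b.2, by rw [← hb]; exact congrArg Subtype.val (pow_orderOf_eq_one b)⟩
  have a3 : orderOf b' = r := (orderOf_coe b').symm.trans ((orderOf_coe b).trans hb)
  obtain rfl : r = p := by_contra fun e => by
    obtain ⟨x, hx⟩ := a2.nonempty_fixed_point_of_prime_not_dvd_card (ZMod (p ^ a)) (by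
      rw [Nat.card_zmod]; exact fun h => e ((Nat.prime_dvd_prime_iff_eq hr hp).1 (hr.dvd_of_dvd_pow h)))
    refine hr.one_lt.ne' (a3 ▸ orderOf_eq_one_iff.2 (Subtype.ext (Subtype.ext (Equiv.ext fun y => ?_))))
    have := hx ⟨_, hB.conj_mem _ b'.2 ⟨_, a1 (x - y)⟩⟩
    change b'.1.1 (x + -(x - y)) + (x - y) = x at this
    rw [← eq_sub_iff_add_eq, sub_sub_cancel, neg_sub, add_sub_cancel] at this
    exact this
  haveI := Fintype.ofFinite B
  obtain ⟨z, hz, hz1⟩ := exists_fixed_point_of_prime' (p := r) (n := a)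
    (σ := (MulAut.conjNormal (H := B) ⟨_, hu⟩).toEquiv) (a3.symm.dvd.trans orderOf_dvd_card) (by
      change MulAction.toPermHom (MulAut B) B (MulAut.conjNormal (⟨_, hu⟩ : K)) ^ _ = 1
      rw [← map_pow, ← map_pow, show (⟨_, hu⟩ : K) ^ r ^ a = 1 from Subtype.ext (by
        rw [Subgroup.coe_pow, a0]; ext; simp), map_one, map_one]) (a := 1) (map_one (MulAut.conjNormal (H := B) ⟨_, hu⟩))
  have a4 : ∀ y, z.1.1 (y + -1) + 1 = z.1.1 y := fun y =>
    congrArg (fun t : B => t.1.1 y) hz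
  have a5 : z.1.1 = Equiv.addRight (z.1.1 0) := Equiv.ext fun y => by
    obtain ⟨n, rfl⟩ := ZMod.natCast_zmod_surjective y
    induction n with
    | zero => simp
    | succ n ih => rw [← a4, Nat.cast_succ, add_neg_cancel_right, ih]; simp [add_right_comm]
  generalize z.1.1 0 = j at a5
  have a6 : addOrderOf j = r := addOrderOf_eq_prime (by
    have := congrArg (fun t : K => t.1 0) z.2.2
    simpa [a5, a0] using this) (by
      rintro rfl; exact hz1 (Subtype.ext (Subtype.ext (by simpa using a5))))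
  have a7 : ∀ t : ZMod (r ^ a), r • t = 0 → (⟨_, a1 t⟩ : K) ∈ A := fun t ht => by
    have b1 : (AddSubgroup.zmultiples j : Set (ZMod (r ^ a))) = {t | r • t = 0} :=
      Set.eq_of_subset_of_ncard_le (fun y hy => addOrderOf_dvd_iff_nsmul_eq_zero.1
        ((addOrderOf_dvd_of_mem_zmultiples hy).trans a6.dvd)) (by
          rw [← Nat.card_coe_set_eq, ← Nat.card_coe_set_eq, SetLike.coe_sort_coe,
            Nat.card_zmultiples, a6, Nat.card_eq_fintype_card, Fintype.card_subtype]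
          exact IsAddCyclic.card_nsmul_eq_zero_le hr.pos)
    obtain ⟨n, rfl⟩ := mem_multiples_iff_mem_zmultiples.2 (show t ∈ AddSubgroup.zmultiples j from b1.ge ht)
    convert pow_mem z.2.1 n using 1
    exact Subtype.ext (by rw [Subgroup.coe_pow, a5, a0]; simp)
  have := congrArg (fun t : K => t.1 (k s)) (hAc _ (hA.conj_mem _ (a7 e he) ⟨k, hk⟩) _ (a7 c hc))
  simpa [← h] using this

theorem good_of (hp : p.Prime) {a r : ℕ} {w : Perm (ZMod (p ^ a))} {x s e c : ZMod (p ^ a)}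
    (hr : r.Coprime p) (h1 : (fun y => w y + 1)^[r] x = x) (h2 : w x + 1 ≠ x)
    (he : p • e = 0) (hc : p • c = 0) (h3 : w (s + e) = w s + c) (h4 : w (s + e + e) ≠ w s + c + c) :
    Good p (Equiv.addRight 1) w :=
  ⟨fun k hk => h2 ((period_eq_one_iff (m := Equiv.addRight 1 * w)).1 (Nat.eq_one_of_dvd_coprimes
    (hr.pow_right k) (pow_smul_eq_iff_period_dvd.1 ((congrFun (Perm.coe_pow _ _) x).trans h1))
    (pow_smul_eq_iff_period_dvd.1 (by rw [hk, one_smul])))),
    fun hs => h4 (comm_of_solvable hp hs (subset_closure (by simp)) (subset_closure (by simp)) he hc h3)⟩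

theorem good_small {G : Type*} [Group G] {u w g h : G} (h1 : (u * w) ^ 20 = 1) (h2 : u * w ≠ 1)
    (h3 : u ≠ 1) (hg : g = w⁻¹ ∨ g = w⁻¹ * u⁻¹ * w) (hh : h = w * u⁻¹ * w⁻¹ ∨ h = w * u⁻¹ * w)
    (h4 : g * u * g⁻¹ * (h * u * h⁻¹) * (g * u * g⁻¹)⁻¹ * (h * u * h⁻¹)⁻¹ = u) : Good 3 u w := by
  refine ⟨fun k hk => h2 (orderOf_eq_one_iff.1 (Nat.eq_one_of_dvd_coprimes
    (Nat.Coprime.pow_right k (by decide)) (orderOf_dvd_of_pow_eq_one h1)
    (orderOf_dvd_of_pow_eq_one hk))), ?_⟩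
  have a1 : u ∈ closure {u, w} := subset_closure (by simp)
  have a2 : w ∈ closure {u, w} := subset_closure (by simp)
  have a3 : g ∈ closure {u, w} := by
    rcases hg with rfl | rfl
    exacts [inv_mem a2, mul_mem (mul_mem (inv_mem a2) (inv_mem a1)) a2]
  have a4 : h ∈ closure {u, w} := by
    rcases hh with rfl | rfl
    exacts [mul_mem (mul_mem a2 (inv_mem a1)) (inv_mem a2), mul_mem (mul_mem a2 (inv_mem a1)) a2]
  refine not_isSolvable_of_mem_derivedSeries (g := ⟨u, a1⟩) (fun e => h3 (congrArg Subtype.val e))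
    fun n => ?_
  induction n with
  | zero => exact mem_top _
  | succ n ih =>
    have := commutator_mem_commutator ((derivedSeries_normal _ n).conj_mem _ ih ⟨g, a3⟩)
      ((derivedSeries_normal _ n).conj_mem _ ih ⟨h, a4⟩)
    refine (congrArg (· ∈ _) ?_).mp this
    exact Subtype.ext h4

theorem md_three {k : ℕ} (hk : 3 ∣ k ∧ k ≤ Fintype.card α ∨ k = Fintype.card α) (h3 : 3 ≤ k)
    (h12 : k < 12) {u : Perm α} (hu : orderOf u = 3) {a b c : Perm (Fin k)} (ha : a.cycleType = {3})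
    (hb : 6 ≤ k → b.cycleType = {3, 3}) (hc : 9 ≤ k → c.cycleType = {3, 3, 3}) :
    ∃ e : Fin k → α, Function.Injective e ∧
      (Md e u a ∨ (6 ≤ k ∧ Md e u b) ∨ (9 ≤ k ∧ Md e u c)) := by
  obtain ⟨x, hx⟩ := exists_period Nat.prime_three (a := 0) hu
  have h0 : u ^ 3 = 1 := hu ▸ pow_orderOf_eq_one u
  obtain ⟨S, h1, h2, h3⟩ : ∃ S, cyc u x ⊆ S ∧ (∀ x ∈ S, u x ∈ S) ∧ S.card = k := by
    obtain ⟨h, h'⟩ | h := hk
    · exact greedy Nat.prime_three (a := 1) h0 (hu ▸ h) h' (apply_mem_cyc u x)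
        (by simpa [card_cyc, hx] using h3)
        fun y _ => by simpa [card_cyc, hx, hu] using period_dvd_orderOf u y
    · exact ⟨Finset.univ, by simp, by simp, h.symm⟩
  obtain ⟨e, u₀, he, h4, h5⟩ := exists_md (ι := Fin k) h2 (by simp [h3]) (v := fun _ : Unit => x)
    (L := fun _ => ⟨0, by omega⟩) (Function.injective_of_subsingleton _)
    (Function.injective_of_subsingleton _) fun _ => h1 (pow_mem_cyc u x 0)
  have h6 : orderOf u₀ = 3 := orderOf_eq_prime (p := 3) (Equiv.ext fun i => he (by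
    rw [pow_three, ← (h4.mul (h4.mul h4)), ← pow_three, h0]; rfl)) (by
      rintro rfl
      have := h4 ⟨0, by omega⟩
      rw [one_apply, h5 ()] at this
      simp [period_eq_one_iff.2 (show u • x = x from this)] at hx)
  obtain ⟨n, hn⟩ := cycleType_prime_order (σ := u₀) (h6 ▸ Nat.prime_three)
  have h7 := u₀.sum_cycleType_le
  rw [h6] at hn
  rw [hn, Multiset.sum_replicate, Fintype.card_fin, smul_eq_mul] at h7
  have key : ∀ {a : Perm (Fin k)}, u₀.cycleType = a.cycleType → ∃ e : Fin k → α,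
      Function.Injective e ∧ Md e u a := fun h => by
    obtain ⟨π, rfl⟩ := isConj_iff.1 (isConj_iff_cycleType_eq.2 h)
    exact ⟨_, he.comp π.symm.injective, h4.conj π⟩
  obtain rfl | rfl | rfl : n = 0 ∨ n = 1 ∨ n = 2 := by omega
  · exact (key (hn.trans ha.symm)).imp fun e h => ⟨h.1, .inl h.2⟩
  · exact (key (hn.trans (hb (by omega)).symm)).imp fun e h => ⟨h.1, .inr (.inl ⟨by omega, h.2⟩)⟩
  · exact (key (hn.trans (hc (by omega)).symm)).imp fun e h => ⟨h.1, .inr (.inr ⟨by omega, h.2⟩)⟩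

theorem main_three (hn : 5 ≤ Fintype.card α) {u w : Perm α} (hu : orderOf u = 3)
    (hw : orderOf w = 3) : ∃ g ∈ alternatingGroup α, Good 3 u (g * w * g⁻¹) := by
  obtain h | h := hn.eq_or_lt
  · obtain ⟨e, he, h1 | ⟨h1, -⟩ | ⟨h1, -⟩⟩ := md_three (k := 5) (.inr h) (by omega) (by omega) hu
      (a := c[0, 1, 2]) (b := 1) (c := 1) (by decide) (by omega) (by omega) <;> try omega
    obtain ⟨e', he', h2 | ⟨h2, -⟩ | ⟨h2, -⟩⟩ := md_three (k := 5) (.inr h) (by omega) (by omega) hw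
      (a := c[2, 3, 4]) (b := 1) (c := 1) (by decide) (by omega) (by omega) <;> try omega
    refine exists_even he he' h1 h2 (i := 0) (j := 1) (by decide) ?_ ?_ <;> exact good_small
      (by decide +kernel) (by decide) (by decide) (.inl rfl) (.inl rfl) (by decide +kernel)
  obtain ⟨e, he, h1 | ⟨-, h1⟩ | ⟨h1, -⟩⟩ := md_three (k := 6) (.inl ⟨by omega, h⟩) (by omega)
    (by omega) hu (a := c[0, 1, 2]) (b := c[0, 1, 2] * c[3, 4, 5]) (c := 1) (by decide)
    (fun _ => by decide) (by omega) <;> try omega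
  · obtain ⟨e', he', h2 | ⟨-, h2⟩ | ⟨h2, -⟩⟩ := md_three (k := 6) (.inl ⟨by omega, h⟩) (by omega)
      (by omega) hw (a := c[2, 3, 4]) (b := c[0, 1, 3] * c[2, 4, 5]) (c := 1) (by decide)
      (fun _ => by decide) (by omega) <;> try omega
    · refine exists_even he he' h1 h2 (i := 0) (j := 1) (by decide) ?_ ?_ <;> exact good_small
        (by decide +kernel) (by decide) (by decide) (.inl rfl) (.inl rfl) (by decide +kernel)
    · refine exists_even he he' h1 h2 (i := 0) (j := 4) (by decide) ?_ ?_ <;> exact good_small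
        (by decide +kernel) (by decide) (by decide) (.inr rfl) (.inr rfl) (by decide +kernel)
  · obtain ⟨e', he', h2 | ⟨-, h2⟩ | ⟨h2, -⟩⟩ := md_three (k := 6) (.inl ⟨by omega, h⟩) (by omega)
      (by omega) hw (a := c[2, 3, 4]) (b := c[0, 1, 3] * c[2, 5, 4]) (c := 1) (by decide)
      (fun _ => by decide) (by omega) <;> try omega
    · refine exists_even he he' h1 h2 (i := 0) (j := 1) (by decide) ?_ ?_ <;> exact good_small
        (by decide +kernel) (by decide) (by decide) (.inr rfl) (.inr rfl) (by decide +kernel)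
    · refine exists_even he he' h1 h2 (i := 0) (j := 4) (by decide) ?_ ?_ <;> exact good_small
        (by decide +kernel) (by decide) (by decide) (.inl rfl) (.inl rfl) (by decide +kernel)

theorem build (hp : p.Prime) {a : ℕ} {u w : Perm α} (hu : orderOf u = p ^ (a + 1))
    (hw : orderOf w ∣ p ^ (a + 1)) {S : Finset α} (hS : ∀ x ∈ S, w x ∈ S) (h1 : S.card ≤ p ^ (a + 1))
    (h2 : orderOf w ∣ S.card) {r : ℕ} {v : Fin r → α} (hv : Function.Injective v)
    (hvS : ∀ k, v k ∈ S) (n : Fin r → ℕ) (hn : Function.Injective n) (hn' : ∀ k, n k < p ^ (a + 1))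
    (H : ∀ w₀ : Perm (ZMod (p ^ (a + 1))), (∀ k k', w (v k) = v k' → w₀ (n k) = n k') →
      Good p (Equiv.addRight 1) w₀)
    (H' : r + 2 ≤ p ^ (a + 1) ∨ ∃ i j : ZMod (p ^ (a + 1)), i ≠ j ∧ ∀ w₀ : Perm (ZMod (p ^ (a + 1))),
      (∀ k k', w (v k) = v k' → w₀ (swap i j (n k)) = swap i j (n k')) →
        Good p (Equiv.addRight 1) w₀) : ∃ g ∈ alternatingGroup α, Good p u (g * w * g⁻¹) := by
  haveI : NeZero (p ^ (a + 1)) := ⟨pow_ne_zero _ hp.ne_zero⟩
  obtain ⟨x, hx⟩ := exists_period hp hu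
  obtain ⟨e, he, h3⟩ := md_cycle hx
  obtain ⟨T, h4, h5, h6⟩ := greedy hp (orderOf_dvd_iff_pow_eq_one.1 hw) hw
    (hx ▸ card_cyc u x ▸ Finset.card_le_univ _) hS h1 fun y _ => (period_dvd_orderOf w y).trans h2
  obtain ⟨e', w₀, he', h7, h8⟩ := exists_md (ι := ZMod (p ^ (a + 1))) h5 (by simp [h6]) hv
    (L := fun k => n k) (fun k k' h => hn (by
      simpa [Nat.mod_eq_of_lt, hn'] using congrArg ZMod.val h)) fun k => h4 (hvS k)
  have h9 : ∀ k k', w (v k) = v k' → w₀ (n k) = n k' := fun k k' h => he' (by rw [← h7, h8, h8, h])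
  obtain ⟨i, j, hij, H'⟩ : ∃ i j : ZMod (p ^ (a + 1)), i ≠ j ∧ ∀ w₀ : Perm (ZMod (p ^ (a + 1))),
      (∀ k k', w (v k) = v k' → w₀ (swap i j (n k)) = swap i j (n k')) →
        Good p (Equiv.addRight 1) w₀ := H'.elim (fun h => by
    obtain ⟨i, hi, j, hj, hij⟩ := Finset.one_lt_card.1 (show 1 < (Finset.univ.image
        fun k => (n k : ZMod (p ^ (a + 1))))ᶜ.card by
      have := Finset.card_image_le (s := Finset.univ) (f := fun k => (n k : ZMod (p ^ (a + 1))))
      rw [Finset.card_compl, ZMod.card]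
      rw [Finset.card_univ, Fintype.card_fin] at this
      omega)
    simp only [Finset.mem_compl, Finset.mem_image, Finset.mem_univ, true_and, not_exists] at hi hj
    exact ⟨i, j, hij, fun w₀ h => H w₀ fun k k' e => by
      simpa only [swap_apply_of_ne_of_ne (hi _) (hj _)] using h k k' e⟩) id
  exact exists_even he he' h3 h7 hij (H _ h9) (H' _ fun k k' h => by simp [h9 k k' h])

theorem cast_ne {m i j : ℕ} (hi : i < m) (hj : j < m) (h : i ≠ j) : (i : ZMod m) ≠ j := fun e =>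
  h (by simpa [Nat.mod_eq_of_lt, hi, hj] using congrArg ZMod.val e)

theorem main_long (hp : p.Prime) (hp3 : 3 ≤ p) {a b : ℕ} {u w : Perm α}
    (hu : orderOf u = p ^ (a + 1)) (hw : orderOf w = p ^ (b + 1)) (hab : b ≤ a)
    (h5 : 5 ≤ p ^ (b + 1)) : ∃ g ∈ alternatingGroup α, Good p u (g * w * g⁻¹) := by
  obtain ⟨y, hy⟩ := exists_period hp hw
  have h1 : p ^ (b + 1) ∣ p ^ (a + 1) := pow_dvd_pow p (by omega)
  have h2 := Nat.le_of_dvd (by positivity) h1
  have key := build hp hu (hw ▸ h1) (apply_mem_cyc w y) (by rwa [card_cyc, hy])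
    (by rw [card_cyc, hy, hw]) (v := fun k : Fin 5 => (w ^ k.1) y)
    (fun i j h => Fin.ext (pow_inj (by omega) (by omega) h)) fun k => pow_mem_cyc w y k
  have h3 : ∀ (k : ℕ), w ((w ^ k) y) = (w ^ (k + 1)) y := fun k => by rw [pow_succ', mul_apply]
  have h4 : ((p ^ (a + 1) : ℕ) : ZMod (p ^ (a + 1))) = 0 := ZMod.natCast_self _
  have h6 : (Nat.Coprime 2 p) := (Nat.coprime_primes Nat.prime_two hp).2 (by omega)
  obtain rfl | ha := Nat.eq_zero_or_pos a
  · have b1 : ∀ t : ZMod (p ^ (0 + 1)), p • t = 0 := fun t => by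
      rw [nsmul_eq_mul, show (p : ZMod (p ^ (0 + 1))) = 0 by simpa using h4, zero_mul]
    have b2 : ∀ i j : Fin 5, i ≠ j → (i.1 : ZMod (p ^ (0 + 1))) ≠ j.1 := fun i j h =>
      cast_ne (by omega) (by omega) (Fin.val_ne_of_ne h)
    refine key ![4, 1, 2, 3, 0] (by decide) (by simp only [Fin.forall_fin_succ, Matrix.cons_val_zero, Matrix.cons_val_succ, IsEmpty.forall_iff, and_true]; omega)
      (fun w₀ h => ?_) (.inr ⟨(1 : ℕ), (2 : ℕ), b2 1 2 (by decide), fun w₀ h => ?_⟩)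
    · have c1 : w₀ 1 = 2 := by simpa using h 1 2 (h3 1)
      have c2 : w₀ 2 = 3 := by simpa using h 2 3 (h3 2)
      have c3 : w₀ 3 = 0 := by simpa using h 3 4 (h3 3)
      refine good_of hp (x := 1) (s := 1) (e := 1) (c := 1) h6 ?_ ?_ (b1 _) (b1 _) ?_ ?_ <;>
        norm_num [c1, c2, c3]
      exacts [by simpa using b2 3 1 (by decide), by simpa using b2 0 4 (by decide)]
    · have c0 : swap ((1 : ℕ) : ZMod (p ^ (0 + 1))) (2 : ℕ) (0 : ℕ) = (0 : ℕ) :=
        swap_apply_of_ne_of_ne (b2 0 1 (by decide)) (b2 0 2 (by decide))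
      have c3 : swap ((1 : ℕ) : ZMod (p ^ (0 + 1))) (2 : ℕ) (3 : ℕ) = (3 : ℕ) :=
        swap_apply_of_ne_of_ne (b2 3 1 (by decide)) (b2 3 2 (by decide))
      have c4 : swap ((1 : ℕ) : ZMod (p ^ (0 + 1))) (2 : ℕ) (4 : ℕ) = (4 : ℕ) :=
        swap_apply_of_ne_of_ne (b2 4 1 (by decide)) (b2 4 2 (by decide))
      have d1 : w₀ 4 = 2 := by simpa using (congrArg w₀ c4).symm.trans (h 0 1 (h3 0))
      have d2 : w₀ 2 = 1 := by simpa using h 1 2 (h3 1)
      have d3 : w₀ 1 = 3 := by simpa using (h 2 3 (h3 2)).trans c3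
      have d4 : w₀ 3 = 0 := by simpa using ((congrArg w₀ c3).symm.trans (h 3 4 (h3 3))).trans c0
      refine good_of hp (r := 3) (x := 4) (s := 1) (e := 1) (c := -2) ((Nat.coprime_primes
        Nat.prime_three hp).2 (by rintro rfl; simp at h2; omega)) ?_ ?_ (b1 _) (b1 _) ?_ ?_ <;>
        norm_num [d1, d2, d3, d4]
      exacts [by simpa using b2 3 4 (by decide), by simpa using b2 1 0 (by decide)]
  have b1 : 3 ≤ p ^ a := hp3.trans (Nat.le_self_pow ha.ne' p)
  have b2 : 3 * p ^ a ≤ p ^ (a + 1) := by rw [pow_succ']; gcongr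
  have b3 : p • ((p ^ a : ℕ) : ZMod (p ^ (a + 1))) = 0 := by
    rw [nsmul_eq_mul, ← Nat.cast_mul, ← pow_succ', h4]
  generalize p ^ a = d at b1 b2 b3
  obtain ⟨M, hM⟩ : ∃ M, p ^ (a + 1) = M + 1 := ⟨_, (Nat.sub_add_cancel (by omega)).symm⟩
  have b4 : (M : ZMod (p ^ (a + 1))) = -1 := by
    rw [eq_neg_iff_add_eq_zero, ← Nat.cast_succ, ← h4]; congr 1; omega
  refine key ![0, d, d + d, d + 1, M] (fun i j h => by fin_cases i <;> fin_cases j <;> first | rfl | (simp at h; omega) | simp at h)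
    (by simp only [Fin.forall_fin_succ, Matrix.cons_val_zero, Matrix.cons_val_succ, IsEmpty.forall_iff, and_true]; omega) (fun w₀ h => ?_) (.inl (by omega))
  have c1 : w₀ 0 = d := by simpa using h 0 1 (h3 0)
  have c2 : w₀ d = d + d := by simpa using h 1 2 (h3 1)
  have c3 : w₀ (d + d) = d + 1 := by simpa using h 2 3 (h3 2)
  have c4 : w₀ (d + 1) = -1 := by simpa [b4] using h 3 4 (h3 3)
  refine good_of hp (x := 0) (s := 0) h6 ?_ ?_ b3 b3 ?_ ?_ <;> simp [c1, c2, c3, c4, add_assoc]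
  exacts [by simpa using cast_ne (i := d + 1) (j := 0) (by omega) (by omega) (by omega),
    by simpa using cast_ne (i := 1) (j := d + d) (by omega) (by omega) (by omega)]

theorem main_nine {a : ℕ} {u w : Perm α} (hu : orderOf u = 3 ^ (a + 1 + 1)) (hw : orderOf w = 3) :
    ∃ g ∈ alternatingGroup α, Good 3 u (g * w * g⁻¹) := by
  obtain ⟨x, hx⟩ := exists_period Nat.prime_three hu
  have b1 : 3 ≤ 3 ^ (a + 1) := Nat.le_self_pow (by omega) 3
  have b2 : 3 ^ (a + 1 + 1) = 3 * 3 ^ (a + 1) := pow_succ' ..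
  have h4 : ((3 ^ (a + 1 + 1) : ℕ) : ZMod (3 ^ (a + 1 + 1))) = 0 := ZMod.natCast_self _
  have b3 : 3 • ((3 ^ (a + 1) : ℕ) : ZMod (3 ^ (a + 1 + 1))) = 0 := by
    rw [nsmul_eq_mul, ← Nat.cast_mul, ← pow_succ', h4]
  generalize 3 ^ (a + 1) = d at b1 b2 b3
  obtain ⟨e, he, h⟩ := md_three (k := 9) (.inl ⟨by omega, by
    have := card_cyc u x ▸ Finset.card_le_univ (cyc u x)
    rw [hx] at this; exact le_trans (by omega) (b2 ▸ this)⟩) (by omega) (by omega) hw
    (a := c[0, 1, 2]) (b := c[0, 1, 2] * c[3, 4, 5]) (c := c[0, 1, 2] * c[3, 4, 5] * c[6, 7, 8])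
    (by decide +kernel) (fun _ => by decide +kernel) fun _ => by decide +kernel
  have key := fun r (s : Fin r → Fin 9) (hs : Function.Injective s) => build Nat.prime_three hu
    (w := w) (hw.dvd.trans (dvd_pow_self 3 (Nat.succ_ne_zero _))) (S := Finset.univ.image e) (fun x hx => by
      obtain ⟨i, -, rfl⟩ := Finset.mem_image.1 hx
      rcases h with h | ⟨-, h⟩ | ⟨-, h⟩ <;> exact h i ▸ Finset.mem_image_of_mem _ (Finset.mem_univ _))
    (by rw [Finset.card_image_of_injective _ he]; simp only [Finset.card_univ, Fintype.card_fin]; omega)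
    (by simp [Finset.card_image_of_injective _ he, hw]) (he.comp hs)
    fun k => Finset.mem_image_of_mem _ (Finset.mem_univ _)
  obtain ⟨M, hM⟩ : ∃ M, 3 ^ (a + 1 + 1) = M + 2 := ⟨_, (Nat.sub_add_cancel (by omega)).symm⟩
  have b4 : (M : ZMod (3 ^ (a + 1 + 1))) = -2 := by
    rw [eq_neg_iff_add_eq_zero, ← h4, ← Nat.cast_two, ← Nat.cast_add]; congr 1; omega
  have b6 : (M : ZMod (3 ^ (a + 1 + 1))) + 1 = -1 := by rw [b4]; norm_num
  have b5 : (d : ZMod (3 ^ (a + 1 + 1))) + d + d = 0 := by rw [← b3, nsmul_eq_mul]; push_cast; ring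
  obtain h | h : (w (e 0) = e 1 ∧ w (e 6) = e 6 ∧ w (e 7) = e 7 ∧ w (e 8) = e 8) ∨
      (w (e 0) = e 1 ∧ w (e 1) = e 2 ∧ w (e 3) = e 4 ∧ w (e 6) = e 7) := by
    rcases h with h | ⟨-, h⟩ | ⟨-, h⟩
    exacts [.inl ⟨h 0, h 6, h 7, h 8⟩, .inl ⟨h 0, h 6, h 7, h 8⟩, .inr ⟨h 0, h 1, h 3, h 6⟩]
  · refine key 5 ![0, 1, 6, 7, 8] (by decide) ![0, M, M + 1, d, d + d]
      (fun i j h => by fin_cases i <;> fin_cases j <;> first | rfl | (simp at h; omega) | simp at h)
      (by simp only [Fin.forall_fin_succ, Matrix.cons_val_zero, Matrix.cons_val_succ, IsEmpty.forall_iff, and_true]; omega) (fun w₀ h' => ?_) (.inl (by omega))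
    have c1 : w₀ 0 = -2 := by simpa [b4] using h' 0 1 h.1
    have c2 : w₀ (-1) = -1 := by simpa [b6] using h' 2 2 h.2.1
    have c3 : w₀ d = d := by simpa using h' 3 3 h.2.2.1
    have c4 : w₀ (d + d) = d + d := by simpa using h' 4 4 h.2.2.2
    refine good_of Nat.prime_three (r := 2) (x := 0) (s := d) (by decide) ?_ ?_ b3 b3 ?_ ?_ <;>
      norm_num [c1, c2, c3, c4, b5]
    exacts [by simpa using cast_ne (i := 1) (j := 0) (by omega) (by omega) (by omega),
      by simpa using cast_ne (i := 2) (j := 0) (by omega) (by omega) (by omega)]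
  refine key 7 ![0, 1, 2, 3, 4, 6, 7] (by decide) ![0, 1, 1 + d + d, d, 1 + d, 2, M + 1]
    (fun i j h => by fin_cases i <;> fin_cases j <;> first | rfl | (simp at h; omega) | simp at h)
    (by simp only [Fin.forall_fin_succ, Matrix.cons_val_zero, Matrix.cons_val_succ, IsEmpty.forall_iff, and_true]; omega) (fun w₀ h' => ?_) (.inl (by omega))
  have c1 : w₀ 0 = 1 := by simpa using h' 0 1 h.1
  have c2 : w₀ 1 = 1 + d + d := by simpa using h' 1 2 h.2.1
  have c3 : w₀ d = 1 + d := by simpa using h' 3 4 h.2.2.1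
  have c4 : w₀ 2 = -1 := by simpa [b6] using h' 5 6 h.2.2.2
  refine good_of Nat.prime_three (r := 2) (x := 0) (s := 0) (by decide) ?_ ?_ b3 b3 ?_ ?_ <;>
    norm_num [c1, c3, c4, ← c2]
  exacts [by simpa using cast_ne (i := 2) (j := 0) (by omega) (by omega) (by omega),
    by simpa using cast_ne (i := d + d) (j := 1) (by omega) (by omega) (by omega)]

theorem main (hn : 5 ≤ Fintype.card α) (hp : p.Prime) (hp3 : 3 ≤ p) {a b : ℕ} {u w : Perm α}
    (hu : orderOf u = p ^ (a + 1)) (hw : orderOf w = p ^ (b + 1)) :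
    ∃ g ∈ alternatingGroup α, Good p u (g * w * g⁻¹) := by
  wlog hab : b ≤ a generalizing a b u w
  · obtain ⟨g, hg, h⟩ := this hw hu (by omega)
    exact ⟨_, inv_mem hg, h.symm⟩
  by_cases h5 : 5 ≤ p ^ (b + 1)
  · exact main_long hp hp3 hu hw hab h5
  obtain rfl : b = 0 := by_contra fun e => h5 (le_trans (by nlinarith)
    (Nat.pow_le_pow_right hp.pos (show 2 ≤ b + 1 by omega)))
  obtain rfl : p = 3 := by
    have : p ≠ 4 := by rintro rfl; exact absurd hp (by decide)
    simp at h5; omega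
  obtain _ | a := a
  exacts [main_three hn hu hw, main_nine hu hw]

end Cfsg.Agent.PElt
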