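import Cfsg.Agent.Lib.Alt.Carmichael

set_option autoImplicit false

namespace Cfsg.Agent.Alt

open Equiv Cfsg.Agent.Pres
open FreeGroup (lift of lift_apply_of)

theorem sign_eq_one_of_pow_odd {α : Type*} [Fintype α] [DecidableEq α] {g : Perm α} {n : ℕ}
    (hn : Odd n) (h : g ^ n = 1) : Perm.sign g = 1 := by
  have := congrArg Perm.sign h
  rw [map_pow, map_one] at this
  rcases Int.units_eq_one_or (Perm.sign g) with h1 | h1
  · exact h1
  · rw [h1, hn.neg_one_pow] at this
    exact absurd this (by decide)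

theorem sq_mul_comm {J : Type*} [Group J] {x y : J} (h : (x * y) ^ 2 = 1) : (y * x) ^ 2 = 1 := by
  have : (y * x) ^ 2 = y * (x * y) ^ 2 * y⁻¹ := by simp [sq, mul_assoc]
  rw [this, h]; simp

theorem sq_inv_mul_inv {J : Type*} [Group J] {x y : J} (h : (x * y) ^ 2 = 1) :
    (x⁻¹ * y⁻¹) ^ 2 = 1 := by
  rw [← mul_inv_rev, inv_pow, sq_mul_comm h, inv_one]

theorem sq_conj {J : Type*} [Group J] {x y : J} (g : J) (h : (x * y) ^ 2 = 1) :
    ((g * x * g⁻¹) * (g * y * g⁻¹)) ^ 2 = 1 := by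
  have : ((g * x * g⁻¹) * (g * y * g⁻¹)) ^ 2 = g * (x * y) ^ 2 * g⁻¹ := by simp [sq, mul_assoc]
  rw [this, h]; simp

/-- The abstract part of the four-relator presentation of `A_{p+2}`. -/
theorem base_card {p : ℕ} [Fact p.Prime] {r : ℕ} (hr : Even r)
    (hgen : ∀ x : ZMod p, x ≠ 0 → ∃ t : ℕ, (r : ZMod p) ^ t = x) (hr1 : (r : ZMod p) ≠ 1)
    {J : Type*} [Group J] (z a w : J) (htop : Subgroup.closure {z, a} = ⊤)
    (hw : w ∈ Subgroup.normalClosure {z}) (h1 : z ^ 3 = a ^ p) (h2 : w * z * w⁻¹ = z⁻¹)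
    (h3 : w * a * w⁻¹ = a ^ r) (h4 : (z * (a * z * a⁻¹)) ^ 2 = 1) :
    Finite J ∧ 2 * Nat.card J ≤ (p + 2).factorial := by
  have hpp : p.Prime := Fact.out
  have hc : w * z ^ 3 * w⁻¹ = z ^ 3 := by
    have : w ∈ Subgroup.centralizer {z ^ 3} := by
      have hle : Subgroup.closure {z, a} ≤ Subgroup.centralizer {z ^ 3} := by
        rw [Subgroup.closure_le]
        rintro x (rfl | rfl)
        · exact Subgroup.mem_centralizer_singleton_iff.mpr (Commute.self_pow _ _).eq
        · rw [h1]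
          exact Subgroup.mem_centralizer_singleton_iff.mpr (Commute.self_pow _ _).eq
      exact hle (by rw [htop]; trivial)
    rw [Subgroup.mem_centralizer_singleton_iff.mp this]; simp
  have hc2 : (z ^ 3) ^ 2 = 1 := by
    rw [← conj_pow, h2, inv_pow, inv_eq_iff_mul_eq_one] at hc
    rw [sq, hc]
  have hz3 : z ^ 3 = 1 := by
    obtain ⟨s, hs⟩ := hr
    have := hc
    rw [h1, ← conj_pow, h3, ← pow_mul, mul_comm, pow_mul, ← h1, hs, ← two_mul, pow_mul, hc2,
      one_pow] at this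
    exact this.symm
  have hap : a ^ p = 1 := by rw [← h1, hz3]
  let A : ZMod p → J := fun i => a ^ i.val
  have hAn : ∀ n : ℕ, A n = a ^ n := fun n => by
    simp only [A, ZMod.val_natCast]; exact (pow_eq_pow_mod n hap).symm
  have hAadd : ∀ i j, A (i + j) = A i * A j := fun i j => by
    rw [← pow_add, ← hAn]; simp
  have hAw : ∀ i, w * A i * w⁻¹ = A (r * i) := fun i => by
    simp only [A]
    rw [← conj_pow, h3, ← pow_mul, ← hAn]; simp [A]
  let zz : ZMod p → J := fun i => A i * z * (A i)⁻¹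
  have hz0 : zz 0 = z := by simp [zz, A]
  have hAzz : ∀ i j, A i * zz j * (A i)⁻¹ = zz (i + j) := fun i j => by
    simp only [zz, hAadd]; group
  have hwzz : ∀ i, w * zz i * w⁻¹ = (zz (r * i))⁻¹ := fun i => by
    simp only [zz]
    rw [← hAw]
    calc w * (A i * z * (A i)⁻¹) * w⁻¹
        = (w * A i * w⁻¹) * (w * z * w⁻¹) * (w * A i * w⁻¹)⁻¹ := by group
      _ = _ := by rw [h2]; group
  have hA1 : A 1 = a := by rw [← Nat.cast_one, hAn, pow_one]
  have hP0 : ∀ t : ℕ, (zz 0 * zz ((r : ZMod p) ^ t)) ^ 2 = 1 := by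
    intro t
    induction t with
    | zero => rw [pow_zero, hz0]; simp only [zz, hA1]; exact h4
    | succ t ih =>
      have := sq_inv_mul_inv (sq_conj w ih)
      rw [hwzz, hwzz, inv_inv, inv_inv, mul_zero, ← pow_succ'] at this
      exact this
  have hP : ∀ i j, i ≠ j → (zz i * zz j) ^ 2 = 1 := by
    intro i j hij
    obtain ⟨t, ht⟩ := hgen (j - i) (sub_ne_zero.mpr hij.symm)
    have := sq_conj (A i) (hP0 t)
    rwa [hAzz, hAzz, add_zero, ht, add_sub_cancel] at this
  obtain ⟨hfin, hcard⟩ := carmichael_card_range zz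
    (fun i => by simp only [zz]; rw [conj_pow, hz3]; simp) hP
  set N := Subgroup.closure (Set.range zz) with hN
  have hmem : ∀ i, zz i ∈ N := fun i => Subgroup.subset_closure ⟨i, rfl⟩
  have hnorm : N.Normal := by
    rw [← Subgroup.normalizer_eq_top_iff, eq_top_iff, ← htop, Subgroup.closure_le]
    rintro x (rfl | rfl)
    · exact Subgroup.le_normalizer (hz0 ▸ hmem 0)
    · have key : ∀ i, ∀ g ∈ N, A i * g * (A i)⁻¹ ∈ N := by
        intro i g hg
        have : N ≤ N.comap (MulAut.conj (A i)).toMonoidHom := by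
          rw [hN, Subgroup.closure_le]
          rintro _ ⟨j, rfl⟩
          change A i * zz j * (A i)⁻¹ ∈ N
          rw [hAzz]; exact hmem _
        exact this hg
      rw [SetLike.mem_coe, Subgroup.mem_normalizer_iff]
      intro g
      refine ⟨fun hg => hA1 ▸ key 1 g hg, fun hg => ?_⟩
      have h5 := key (-1) _ hg
      have h6 : A (-1) = x⁻¹ := by
        rw [eq_inv_iff_mul_eq_one, ← hA1, ← hAadd]; simp [A]
      rw [h6] at h5
      simpa [mul_assoc] using h5
  have hwN : w ∈ N := Subgroup.normalClosure_le_normal (by simpa using hz0 ▸ hmem 0) hw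
  have haN : a ∈ N := by
    have h5 : A (r - 1) ∈ N := by
      have h6 : A (r - 1) = w * (a * w⁻¹ * a⁻¹) := by
        have := hAadd (r - 1) 1
        rw [sub_add_cancel, hAn, hA1, ← h3] at this
        rw [eq_mul_inv_of_mul_eq this.symm]; group
      rw [h6]
      exact mul_mem hwN (hnorm.conj_mem _ (inv_mem hwN) a)
    have h7 : ∀ n : ℕ, A (n * (r - 1)) ∈ N := by
      intro n
      induction n with
      | zero => simp [A]
      | succ n ih => rw [Nat.cast_succ, add_mul, one_mul, hAadd]; exact mul_mem ih h5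
    have h8 := h7 ((r - 1 : ZMod p)⁻¹).val
    rwa [ZMod.natCast_zmod_val, inv_mul_cancel₀ (sub_ne_zero.mpr hr1), hA1] at h8
  have hNtop : N = ⊤ := by
    rw [eq_top_iff, ← htop, Subgroup.closure_le]
    rintro x (rfl | rfl)
    · exact hz0 ▸ hmem 0
    · exact haN
  rw [hNtop] at hfin hcard
  rw [Subgroup.card_top, ZMod.card] at hcard
  exact ⟨Finite.of_equiv _ Subgroup.topEquiv.toEquiv, hcard⟩

theorem exists_even_primitive_root (p : ℕ) [Fact p.Prime] (hp : p ≠ 2) :
    ∃ r : ℕ, Even r ∧ (∀ x : ZMod p, x ≠ 0 → ∃ t : ℕ, (r : ZMod p) ^ t = x) ∧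
      (r : ZMod p) ≠ 1 ∧ (r : ZMod p) ≠ 0 := by
  have hpp : p.Prime := Fact.out
  obtain ⟨g, hg⟩ := IsCyclic.exists_monoid_generator (α := (ZMod p)ˣ)
  have h1 : ∀ x : ZMod p, x ≠ 0 → ∃ t : ℕ, (g : ZMod p) ^ t = x := by
    intro x hx
    obtain ⟨t, ht⟩ := hg (Units.mk0 x hx)
    exact ⟨t, by simpa using congrArg Units.val ht⟩
  have h2 : (g : ZMod p) ≠ 1 := by
    intro h
    obtain ⟨t, ht⟩ := h1 (-1) (by simp)
    rw [h, one_pow] at ht
    have : Fact (2 < p) := ⟨lt_of_le_of_ne hpp.two_le hp.symm⟩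
    exact ZMod.neg_one_ne_one ht.symm
  obtain ⟨r, hr, hrg⟩ : ∃ r : ℕ, Even r ∧ (r : ZMod p) = g := by
    rcases Nat.even_or_odd (g : ZMod p).val with h | h
    · exact ⟨_, h, ZMod.natCast_zmod_val _⟩
    · exact ⟨_, h.add_odd (hpp.odd_of_ne_two hp), by simp⟩
  exact ⟨r, hr, hrg ▸ h1, hrg ▸ h2, hrg ▸ g.ne_zero⟩

theorem sign_mulLeft_generator {p : ℕ} [Fact p.Prime] (hp : p ≠ 2) {r : ZMod p} (hr0 : r ≠ 0)
    (hr1 : r ≠ 1) (hgen : ∀ x : ZMod p, x ≠ 0 → ∃ t : ℕ, r ^ t = x) :
    Perm.sign (Equiv.mulLeft₀ r hr0) = -1 := by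
  have hpp : p.Prime := Fact.out
  have hpow : ∀ (t : ℕ) (x : ZMod p), ((Equiv.mulLeft₀ r hr0 : Perm (ZMod p)) ^ t) x = r ^ t * x := by
    intro t
    induction t with
    | zero => simp
    | succ t ih => intro x; rw [pow_succ', Perm.mul_apply, ih]; simp [pow_succ', mul_assoc]
  have hsupp : ∀ x : ZMod p, (Equiv.mulLeft₀ r hr0) x ≠ x ↔ x ≠ 0 := by
    intro x
    simp only [mulLeft₀_apply, ne_eq, not_iff_not]
    constructor
    · intro h
      have : (r - 1) * x = 0 := by linear_combination h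
      exact (mul_eq_zero.mp this).resolve_left (sub_ne_zero.mpr hr1)
    · rintro rfl; simp
  have hc : Perm.IsCycle (Equiv.mulLeft₀ r hr0 : Perm (ZMod p)) := by
    refine ⟨1, (hsupp 1).mpr one_ne_zero, fun y hy => ?_⟩
    obtain ⟨t, ht⟩ := hgen y ((hsupp y).mp hy)
    exact ⟨t, by rw [zpow_natCast, hpow, mul_one, ht]⟩
  have hs : (Equiv.mulLeft₀ r hr0 : Perm (ZMod p)).support = Finset.univ.erase 0 := by
    ext x; simp only [Perm.mem_support, hsupp]; simp
  rw [hc.sign, hs, Finset.card_erase_of_mem (Finset.mem_univ _), Finset.card_univ, ZMod.card]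
  rw [Even.neg_one_pow (Nat.Odd.sub_odd (hpp.odd_of_ne_two hp) odd_one)]

/-- `A_{p+2}` has a presentation with two generators, one of them a 3-cycle, and 4 relations. -/
theorem base_pres (p : ℕ) [Fact p.Prime] (hp : p ≠ 2) :
    ∃ π : Fin 2 → alternatingGroup (ZMod p ⊕ Bool), (π 0).1.IsThreeCycle ∧ HasPres π 4 := by
  have hpp : p.Prime := Fact.out
  obtain ⟨r, hr, hgen, hr1, hr0⟩ := exists_even_primitive_root p hp
  let tr : ZMod p → Perm (ZMod p ⊕ Bool) := fun x => Perm.sumCongr (Equiv.addLeft x) 1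
  have htr : ∀ n : ℕ, tr 1 ^ n = tr n := by
    intro n
    induction n with
    | zero => ext x; rcases x with x | x <;> simp [tr]
    | succ n ih => rw [pow_succ, ih]; ext x; rcases x with x | x <;> simp [tr, add_assoc]
  have htrp : tr 1 ^ p = 1 := by rw [htr]; ext x; rcases x with x | x <;> simp [tr]
  let a : alternatingGroup (ZMod p ⊕ Bool) :=
    ⟨tr 1, sign_eq_one_of_pow_odd (hpp.odd_of_ne_two hp) htrp⟩
  let z : alternatingGroup (ZMod p ⊕ Bool) := t3 (.inl 0) (.inr false) (.inr true)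
  let b : alternatingGroup (ZMod p ⊕ Bool) :=
    ⟨Perm.sumCongr (Equiv.mulLeft₀ (r : ZMod p) hr0) (swap false true), by
      rw [Perm.mem_alternatingGroup, Perm.sign_sumCongr, sign_mulLeft_generator hp hr0 hr1 hgen,
        Perm.sign_swap (by decide)]; simp⟩
  have hz : z.1.IsThreeCycle := by
    simp only [z]
    rw [coe_t3 (by simp) (by simp) (by simp)]
    exact c3_isThreeCycle (by simp) (by simp) (by simp)
  have hconj : ∀ n : ℕ, a ^ n * z * (a ^ n)⁻¹ = t3 (.inl n) (.inr false) (.inr true) := by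
    intro n
    rw [conj_t3]
    simp [a, htr, tr]
  let π : Fin 2 → alternatingGroup (ZMod p ⊕ Bool) := ![z, a]
  have hrange : ∀ {J : Type} (f : Fin 2 → J), Set.range f = {f 0, f 1} := by
    intro J f; ext x; simp [Fin.exists_fin_two, eq_comm]
  have htop : Subgroup.closure (Set.range π) = ⊤ := by
    rw [eq_top_iff, ← closure_star_t3 (u := Sum.inr false) (v := Sum.inr true) (by simp),
      Subgroup.closure_le]
    rintro _ ⟨⟨i, hi1, hi2⟩, rfl⟩
    rcases i with i | i
    · have hz' : z ∈ Subgroup.closure (Set.range π) := Subgroup.subset_closure ⟨0, rfl⟩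
      have ha' : a ∈ Subgroup.closure (Set.range π) := Subgroup.subset_closure ⟨1, rfl⟩
      have := hconj i.val
      rw [ZMod.natCast_zmod_val] at this
      simp only [← this]
      exact mul_mem (mul_mem (pow_mem ha' _) hz') (inv_mem (pow_mem ha' _))
    · cases i <;> simp at hi1 hi2
  have hsurj := FreeGroup.lift_surjective_iff_closure_range_eq_top.mpr htop
  obtain ⟨W, hW1, hW2⟩ : b ∈ (Subgroup.normalClosure {of (0 : Fin 2)}).map (lift π) := by
    rw [Subgroup.map_normalClosure _ _ hsurj]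
    simp only [Set.image_singleton, lift_apply_of]
    have := Perm.IsThreeCycle.alternating_normalClosure (α := ZMod p ⊕ Bool) (by
      have := hpp.two_le
      simp; omega) hz
    change b ∈ Subgroup.normalClosure {z}
    rw [this]; trivial
  refine ⟨π, hz, HasPres.of_card [of 0 ^ 3 * (of 1 ^ p)⁻¹, W * of 0 * W⁻¹ * of 0,
    W * of 1 * W⁻¹ * (of 1 ^ r)⁻¹, (of 0 * (of 1 * of 0 * (of 1)⁻¹)) ^ 2] htop ?_ ?_⟩
  · simp only [List.mem_cons, List.not_mem_nil, or_false, forall_eq_or_imp, forall_eq, map_mul,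
      map_pow, map_inv, lift_apply_of, hW2]
    change z ^ 3 * (a ^ p)⁻¹ = 1 ∧ b * z * b⁻¹ * z = 1 ∧ b * a * b⁻¹ * (a ^ r)⁻¹ = 1 ∧
      (z * (a * z * a⁻¹)) ^ 2 = 1
    refine ⟨?_, ?_, ?_, ?_⟩
    · rw [t3_pow_three (by simp) (by simp) (by simp), one_mul, inv_eq_one]
      exact Subtype.ext htrp
    · rw [mul_eq_one_iff_eq_inv, conj_t3, t3_inv (by simp) (by simp) (by simp)]
      simp [b]
    · rw [mul_inv_eq_one, mul_inv_eq_iff_eq_mul]
      apply Subtype.ext
      simp only [Subgroup.coe_mul, Subgroup.coe_pow, a, b, htr]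
      ext x; rcases x with x | x <;> simp [tr, mul_add]
    · have := hconj 1
      rw [pow_one] at this
      rw [this]
      exact t3_mul_sq (by simp) (by simp) (by simp) (by simp) (by simp) (by simp)
  · intro J _ f hf hrel
    simp only [List.mem_cons, List.not_mem_nil, or_false, forall_eq_or_imp, forall_eq, map_mul,
      map_pow, map_inv, lift_apply_of] at hrel
    obtain ⟨h1, h2, h3, h4⟩ := hrel
    rw [hrange] at hf
    have hw : lift f W ∈ Subgroup.normalClosure {f 0} := by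
      have : Subgroup.normalClosure {of (0 : Fin 2)} ≤
          (Subgroup.normalClosure {f 0}).comap (lift f) := by
        apply Subgroup.normalClosure_le_normal
        rintro _ rfl
        exact Subgroup.subset_normalClosure (by simp)
      exact this hW1
    obtain ⟨hfin, hcard⟩ := base_card hr hgen hr1 (f 0) (f 1) (lift f W) hf hw
      (mul_inv_eq_one.mp h1) (mul_eq_one_iff_eq_inv.mp h2) (mul_inv_eq_one.mp h3) h4
    refine ⟨hfin, ?_⟩
    have : Nontrivial (ZMod p ⊕ Bool) := ⟨.inr true, .inr false, by simp⟩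
    have := two_mul_nat_card_alternatingGroup (α := ZMod p ⊕ Bool)
    rw [Nat.card_perm] at this
    simp only [Nat.card_eq_fintype_card (α := ZMod p ⊕ Bool), Fintype.card_sum, ZMod.card,
      Fintype.card_bool] at this
    omega

end Cfsg.Agent.Alt
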