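import Cfsg.Agent.Lib.Alt.Cycles

set_option autoImplicit false

namespace Cfsg.Agent.Alt

open Equiv Cfsg.Agent.Pres

variable {K P : Type} [Fintype K] [DecidableEq K] [Fintype P] [DecidableEq P]

/-- Two copies of an alternating group glued along a common alternating subgroup. -/
theorem amalgam_card {J : Type*} [Group J] (ι₁ ι₂ : alternatingGroup (K ⊕ P) →* J)
    (hag : ∀ x, ι₁ (altInl K P x) = ι₂ (altInl K P x)) {k1 k2 k3 k4 : K} (h12 : k1 ≠ k2)
    (h13 : k1 ≠ k3) (h14 : k1 ≠ k4) (h23 : k2 ≠ k3) (h24 : k2 ≠ k4) (h34 : k3 ≠ k4)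
    (hcomm : ∀ i j : P, Commute (ι₁ (t3 (.inr i) (.inl k3) (.inl k4)))
      (ι₂ (t3 (.inr j) (.inl k1) (.inl k2)))) :
    Finite ↥(ι₁.range ⊔ ι₂.range) ∧ 2 * Nat.card ↥(ι₁.range ⊔ ι₂.range) ≤
      (Fintype.card K + 2 * Fintype.card P).factorial := by
  let I := {a : K ⊕ P // a ≠ .inl k1 ∧ a ≠ .inl k2} ⊕ P
  have huv : (Sum.inl k1 : K ⊕ P) ≠ .inl k2 := by simpa using h12
  let x : I → J := Sum.elim (fun a => ι₁ (t3 a.1 (.inl k1) (.inl k2)))
    (fun j => ι₂ (t3 (.inr j) (.inl k1) (.inl k2)))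
  have hmix : ∀ (a : {a : K ⊕ P // a ≠ .inl k1 ∧ a ≠ .inl k2}) (j : P),
      (x (.inl a) * x (.inr j)) ^ 2 = 1 := by
    have hK : ∀ (k : K) (j : P), k ≠ k1 → k ≠ k2 → (ι₁ (t3 (.inl k) (.inl k1) (.inl k2)) *
        ι₂ (t3 (.inr j) (.inl k1) (.inl k2))) ^ 2 = 1 := by
      intro k j hk1 hk2
      rw [← altInl_t3, hag, altInl_t3, ← map_mul, ← map_pow,
        t3_mul_sq (by simp) (by simpa) (by simpa) (by simp) (by simp) huv, map_one]
    rintro ⟨a | a, ha1, ha2⟩ j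
    · exact hK a j (by simpa using ha1) (by simpa using ha2)
    · have h1 := sq_conj (ι₁ (t3 (.inr a) (.inl k3) (.inl k4)))⁻¹ (hK k3 j h13.symm h23.symm)
      have h2 := (hcomm a j).inv_left.eq
      rw [h2, mul_assoc (ι₂ _), mul_inv_cancel, mul_one, ← map_inv, ← map_inv, ← map_mul,
        ← map_mul, t3_inv (by simp) (by simp) (by simpa), conj_t3,
        coe_t3 (by simp) (by simp) (by simpa using h34.symm),
        c3_apply_right (by simp) (by simpa using h34.symm),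
        c3_apply_of_ne (by simp) (by simpa) (by simpa),
        c3_apply_of_ne (by simp) (by simpa) (by simpa)] at h1
      exact h1
  obtain ⟨hfin, hcard⟩ := carmichael_card_range x
    (by
      rintro (a | j)
      · simp only [x, Sum.elim_inl]
        rw [← map_pow, t3_pow_three a.2.1 a.2.2 huv, map_one]
      · simp only [x, Sum.elim_inr]
        rw [← map_pow, t3_pow_three (by simp) (by simp) huv, map_one])
    (by
      rintro (a | i) (b | j) hij
      · simp only [x, Sum.elim_inl]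
        rw [← map_mul, ← map_pow, t3_mul_sq (fun h => hij (congrArg _ (Subtype.ext h)))
          a.2.1 a.2.2 b.2.1 b.2.2 huv, map_one]
      · exact hmix a j
      · exact sq_mul_comm (hmix b i)
      · simp only [x, Sum.elim_inr]
        rw [← map_mul, ← map_pow, t3_mul_sq (fun h => hij (congrArg _ (Sum.inr.inj h)))
          (by simp) (by simp) (by simp) (by simp) huv, map_one])
  have heq : Subgroup.closure (Set.range x) = ι₁.range ⊔ ι₂.range := by
    apply le_antisymm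
    · rw [Subgroup.closure_le]
      rintro _ ⟨a | j, rfl⟩
      · exact Subgroup.mem_sup_left ⟨_, rfl⟩
      · exact Subgroup.mem_sup_right ⟨_, rfl⟩
    · apply sup_le
      · rw [MonoidHom.range_eq_map, ← closure_star_t3 huv, MonoidHom.map_closure,
          Subgroup.closure_le]
        rintro _ ⟨_, ⟨a, rfl⟩, rfl⟩
        exact Subgroup.subset_closure ⟨.inl a, rfl⟩
      · rw [MonoidHom.range_eq_map, ← closure_star_t3 huv, MonoidHom.map_closure,
          Subgroup.closure_le]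
        rintro _ ⟨_, ⟨⟨a | j, ha⟩, rfl⟩, rfl⟩
        · refine Subgroup.subset_closure ⟨.inl ⟨.inl a, ha⟩, ?_⟩
          simp only [x, Sum.elim_inl]
          rw [← altInl_t3, hag]
        · exact Subgroup.subset_closure ⟨.inr j, rfl⟩
  rw [heq] at hfin hcard
  refine ⟨hfin, hcard.trans (le_of_eq ?_)⟩
  congr 1
  have := card_ne_ne huv
  simp only [I, Fintype.card_sum] at this ⊢
  omega

theorem commute_t3_of_fix {α : Type*} [Fintype α] [DecidableEq α] {f : alternatingGroup α}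
    {a b c : α} (ha : f.1 a = a) (hb : f.1 b = b) (hc : f.1 c = c) : Commute f (t3 a b c) := by
  have := conj_t3 f a b c
  rw [ha, hb, hc, mul_inv_eq_iff_eq_mul] at this
  exact this

/-- One commutation relation gives all that are needed. -/
theorem commute_of_one {J : Type*} [Group J] (ι₁ ι₂ : alternatingGroup (K ⊕ P) →* J)
    (hag : ∀ x, ι₁ (altInl K P x) = ι₂ (altInl K P x)) {k1 k2 k3 k4 k5 : K}
    (h13 : k1 ≠ k3) (h14 : k1 ≠ k4) (h23 : k2 ≠ k3) (h24 : k2 ≠ k4) (h34 : k3 ≠ k4)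
    (h53 : k5 ≠ k3) (h54 : k5 ≠ k4) (e f : alternatingGroup (K ⊕ P))
    (he3 : e.1 (.inl k3) = .inl k3) (he4 : e.1 (.inl k4) = .inl k4)
    (he : ∀ i, ∃ t : ℕ, (e.1 ^ t) (.inl k1) = .inr i)
    (hf1 : f.1 (.inl k1) = .inl k1) (hf2 : f.1 (.inl k2) = .inl k2)
    (hf3 : f.1 (.inl k3) = .inl k3) (hf4 : f.1 (.inl k4) = .inl k4)
    (hf : ∀ i, ∃ t : ℕ, (f.1 ^ t) (.inl k5) = .inr i) (hc : Commute (ι₁ e) (ι₂ f)) (i j : P) :
    Commute (ι₁ (t3 (.inr i) (.inl k3) (.inl k4))) (ι₂ (t3 (.inr j) (.inl k1) (.inl k2))) := by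
  have s1 : Commute (ι₁ (t3 (.inr i) (.inl k3) (.inl k4))) (ι₂ f) := by
    obtain ⟨t, ht⟩ := he i
    have h1 := conj_t3 (e ^ t) (.inl k1) (.inl k3) (.inl k4)
    rw [Subgroup.coe_pow, ht, Perm.pow_apply_eq_self_of_apply_eq_self he3,
      Perm.pow_apply_eq_self_of_apply_eq_self he4] at h1
    rw [← h1, map_mul, map_mul, map_inv, map_pow]
    refine ((hc.pow_left t).mul_left ?_).mul_left (hc.pow_left t).inv_left
    rw [← altInl_t3, hag, altInl_t3]
    exact (commute_t3_of_fix hf1 hf3 hf4).symm.map ι₂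
  obtain ⟨t, ht⟩ := hf j
  have h1 := conj_t3 (f ^ t) (.inl k5) (.inl k1) (.inl k2)
  rw [Subgroup.coe_pow, ht, Perm.pow_apply_eq_self_of_apply_eq_self hf1,
    Perm.pow_apply_eq_self_of_apply_eq_self hf2] at h1
  rw [← h1, map_mul, map_mul, map_inv, map_pow]
  refine ((s1.pow_right t).mul_right ?_).mul_right (s1.pow_right t).inv_right
  rw [← altInl_t3, ← hag, altInl_t3]
  refine Commute.map (commute_t3_of_fix ?_ ?_ ?_) ι₁ <;>
    rw [coe_t3 (by simp) (by simp) (by simpa)] <;>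
    exact c3_apply_of_ne (by simp) (by simpa) (by simpa)

theorem exists_even_cycle_through (k k' : K) (hk : k ≠ k') :
    ∃ e : alternatingGroup (K ⊕ P), (∀ a, a ≠ k → a ≠ k' → e.1 (.inl a) = .inl a) ∧
      ∀ i, ∃ t : ℕ, (e.1 ^ t) (.inl k) = .inr i := by
  obtain ⟨T, hT, h1, h2, h3⟩ : ∃ T : Finset (K ⊕ P), Odd T.card ∧ .inl k ∈ T ∧
      (∀ i, .inr i ∈ T) ∧ ∀ a, a ≠ k → a ≠ k' → .inl a ∉ T := by
    let T0 : Finset (K ⊕ P) := insert (.inl k) (Finset.univ.image .inr)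
    rcases Nat.even_or_odd T0.card with h | h
    · refine ⟨insert (.inl k') T0, ?_, by simp [T0], by simp [T0], by simp +contextual [T0]⟩
      rw [Finset.card_insert_of_notMem (by simpa [T0] using hk.symm)]
      exact h.add_one
    · exact ⟨T0, h, by simp [T0], by simp [T0], by simp +contextual [T0]⟩
  obtain ⟨e, he, hs⟩ := Finset.exists_cycleOn T
  refine ⟨⟨e, sign_eq_one_of_pow_odd hT (cycleOn_pow_card he hs)⟩, ?_, ?_⟩
  · intro a ha ha'
    exact Perm.notMem_support.mp fun h => h3 a ha ha' (hs h)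
  · intro i
    obtain ⟨t, -, ht⟩ := he.exists_pow_eq h1 (h2 i)
    exact ⟨t, ht⟩

/-- An element which squares to `D²` and conjugates one 3-cycle as `D` does acts as `D`. -/
theorem conj_eq_of_generator {H J : Type*} [Group H] [Group J] (ι : H →* J) (Y : J)
    (θ : MulAut H) (m : alternatingGroup K →* H) {D : Perm K} {a b c : K} (ab : a ≠ b)
    (ac : a ≠ c) (bc : b ≠ c) (hgen : alternatingGroup K ≤ Subgroup.closure {D ^ 2, c3 a b c})
    (d2 : alternatingGroup K) (hd2 : d2.1 = D ^ 2) (hθ : θ (m d2) = m d2)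
    (h1 : Y ^ 2 = ι (m d2)) (h2 : Y * ι (m (t3 a b c)) * Y⁻¹ = ι (θ (m (t3 a b c)))) (x) :
    Y * ι (m x) * Y⁻¹ = ι (θ (m x)) := by
  have htop : Subgroup.closure {d2, t3 a b c} = ⊤ := by
    apply closure_alt_eq_top
    rwa [Set.image_pair, hd2, coe_t3 ab ac bc]
  have := MonoidHom.eq_of_eqOn_dense htop
    (f := (MulAut.conj Y).toMonoidHom.comp (ι.comp m)) (g := ι.comp (θ.toMonoidHom.comp m)) (by
      rintro y (rfl | rfl)
      · change Y * ι (m y) * Y⁻¹ = ι (θ (m y))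
        rw [hθ, ← h1]; group
      · exact h2)
  exact DFunLike.congr_fun this x

/-- The square of a permutation, as an even permutation. -/
def sqAlt {α : Type*} [Fintype α] [DecidableEq α] (D : Perm α) : alternatingGroup α :=
  ⟨D ^ 2, by rw [Perm.mem_alternatingGroup, map_pow]; exact Int.units_sq _⟩

theorem conjNormal_altInl (D : Perm K) (x : alternatingGroup K) :
    MulAut.conjNormal (Perm.sumCongr D (1 : Perm P)) (altInl K P x) =
      altInl K P (MulAut.conjNormal D x) := by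
  apply Subtype.ext
  simp [coe_altInl, Perm.sumCongr_mul, Perm.sumCongr_inv]

theorem conjNormal_sqAlt (D : Perm K) : MulAut.conjNormal D (sqAlt D) = sqAlt D := by
  apply Subtype.ext
  simp only [MulAut.conjNormal_apply, sqAlt]
  group

theorem glue_card (D : Perm K) {a b c : K} (ab : a ≠ b) (ac : a ≠ c) (bc : b ≠ c)
    (hgen : alternatingGroup K ≤ Subgroup.closure {D ^ 2, c3 a b c})
    {k1 k2 k3 k4 k5 : K} (h12 : k1 ≠ k2)
    (h13 : k1 ≠ k3) (h14 : k1 ≠ k4) (h23 : k2 ≠ k3) (h24 : k2 ≠ k4) (h34 : k3 ≠ k4)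
    (h53 : k5 ≠ k3) (h54 : k5 ≠ k4) (e f : alternatingGroup (K ⊕ P))
    (he3 : e.1 (.inl k3) = .inl k3) (he4 : e.1 (.inl k4) = .inl k4)
    (he : ∀ i, ∃ t : ℕ, (e.1 ^ t) (.inl k1) = .inr i)
    (hf1 : f.1 (.inl k1) = .inl k1) (hf2 : f.1 (.inl k2) = .inl k2)
    (hf3 : f.1 (.inl k3) = .inl k3) (hf4 : f.1 (.inl k4) = .inl k4)
    (hf : ∀ i, ∃ t : ℕ, (f.1 ^ t) (.inl k5) = .inr i)
    {J : Type*} [Group J] (ι : alternatingGroup (K ⊕ P) →* J) (Y : J)
    (htop : Subgroup.closure (insert Y (Set.range ι)) = ⊤)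
    (h1 : Y ^ 2 = ι (altInl K P (sqAlt D)))
    (h2 : Y * ι (altInl K P (t3 a b c)) * Y⁻¹ = ι (altInl K P (t3 (D a) (D b) (D c))))
    (h3 : Commute (ι e)
      (Y * ι ((MulAut.conjNormal (Perm.sumCongr D (1 : Perm P))).symm f) * Y⁻¹)) :
    ∃ N : Subgroup J, N.Normal ∧ Finite N ∧
      2 * Nat.card N ≤ (Fintype.card K + 2 * Fintype.card P).factorial ∧ ι.range ≤ N := by
  set θ : MulAut (alternatingGroup (K ⊕ P)) := MulAut.conjNormal (Perm.sumCongr D (1 : Perm P))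
    with hθ
  let ι₂ : alternatingGroup (K ⊕ P) →* J :=
    (MulAut.conj Y).toMonoidHom.comp (ι.comp θ.symm.toMonoidHom)
  have hι₂ : ∀ x, ι₂ x = Y * ι (θ.symm x) * Y⁻¹ := fun x => rfl
  have hconj := conj_eq_of_generator ι Y θ (altInl K P) ab ac bc hgen (sqAlt D) rfl
    (by rw [hθ, conjNormal_altInl, conjNormal_sqAlt]) h1
    (by rw [h2, hθ, conjNormal_altInl, conjNormal_t3])
  have hag : ∀ x, ι (altInl K P x) = ι₂ (altInl K P x) := by
    intro x
    have : θ.symm (altInl K P x) = altInl K P ((MulAut.conjNormal D).symm x) := by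
      rw [MulEquiv.symm_apply_eq, hθ, conjNormal_altInl, MulEquiv.apply_symm_apply]
    rw [hι₂, this, hconj, ← this, MulEquiv.apply_symm_apply]
  obtain ⟨hfin, hcard⟩ := amalgam_card ι ι₂ hag h12 h13 h14 h23 h24 h34
    (commute_of_one ι ι₂ hag h13 h14 h23 h24 h34 h53 h54 e f he3 he4 he hf1 hf2 hf3 hf4 hf h3)
  refine ⟨ι.range ⊔ ι₂.range, ?_, hfin, hcard, le_sup_left⟩
  rw [← Subgroup.normalizer_eq_top_iff, eq_top_iff, ← htop, Subgroup.closure_le]
  rintro y (rfl | ⟨x, rfl⟩)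
  · have hle : (ι.range ⊔ ι₂.range).map (MulAut.conj y).toMonoidHom ≤ ι.range ⊔ ι₂.range := by
      rw [Subgroup.map_sup]
      apply sup_le
      · rintro _ ⟨_, ⟨x, rfl⟩, rfl⟩
        exact Subgroup.mem_sup_right ⟨θ x, by rw [hι₂, MulEquiv.symm_apply_apply]; rfl⟩
      · rintro _ ⟨_, ⟨x, rfl⟩, rfl⟩
        refine Subgroup.mem_sup_left ⟨altInl K P (sqAlt D) * θ.symm x * (altInl K P (sqAlt D))⁻¹,
          ?_⟩
        rw [map_mul, map_mul, map_inv, ← h1, hι₂]
        change _ = y * _ * y⁻¹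
        simp only [sq]; group
    exact Subgroup.mem_normalizer_fintype fun n hn => hle ⟨n, hn, rfl⟩
  · exact Subgroup.le_normalizer (Subgroup.mem_sup_left ⟨x, rfl⟩)

end Cfsg.Agent.Alt
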