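import Cfsg.Agent.Lib.Alt.PresGlue

set_option autoImplicit false

namespace Cfsg.Agent.Alt

open Equiv Cfsg.Agent.Pres
open FreeGroup (lift of lift_apply_of)

/-- The involution exchanging the two copies of `P`. -/
def mirror (K P : Type) : Perm ((K ⊕ P) ⊕ P) :=
  Function.Involutive.toPerm
    (Sum.elim (Sum.elim (fun k => .inl (.inl k)) (fun p => .inr p)) (fun p => .inl (.inr p)))
    (by rintro ((k | p) | p) <;> rfl)

variable {K P : Type}

theorem mirror_inl_inl (k : K) : mirror K P (.inl (.inl k)) = .inl (.inl k) := rfl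
theorem mirror_inl_inr (p : P) : mirror K P (.inl (.inr p)) = .inr p := rfl
theorem mirror_inr (p : P) : mirror K P (.inr p) = .inl (.inr p) := rfl
theorem mirror_inv : (mirror K P)⁻¹ = mirror K P := rfl

/-- The gluing permutation. -/
def glueσ (P : Type) (D : Perm K) : Perm ((K ⊕ P) ⊕ P) :=
  mirror K P * Perm.sumCongr (Perm.sumCongr D 1) 1

theorem glueσ_inl_inl (D : Perm K) (k : K) : glueσ P D (.inl (.inl k)) = .inl (.inl (D k)) := rfl
theorem glueσ_inl_inr (D : Perm K) (p : P) : glueσ P D (.inl (.inr p)) = .inr p := rfl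

theorem glueσ_sq (D : Perm K) :
    glueσ P D ^ 2 = Perm.sumCongr (Perm.sumCongr (D ^ 2) 1) 1 := by
  ext x
  rcases x with (k | p) | p <;> rfl

variable [Fintype K] [DecidableEq K] [Fintype P] [DecidableEq P]

theorem sign_glueσ (D : Perm K) :
    Perm.sign (glueσ P D) = Perm.sign (mirror K P) * Perm.sign D := by
  simp [glueσ]

theorem eq_top_of_alt_le_of_odd {α : Type*} [Fintype α] [DecidableEq α] {G : Subgroup (Perm α)}
    (h : alternatingGroup α ≤ G) {σ : Perm α} (hσ : σ ∈ G) (hs : Perm.sign σ = -1) : G = ⊤ := by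
  rw [eq_top_iff]
  intro x _
  rcases Int.units_eq_one_or (Perm.sign x) with h1 | h1
  · exact h h1
  · have : x * σ⁻¹ ∈ G := h (by rw [Perm.mem_alternatingGroup]; simp [h1, hs])
    simpa using mul_mem this hσ

theorem glue_generate (D : Perm K) {k1 k2 : K} (h12 : k1 ≠ k2) :
    alternatingGroup ((K ⊕ P) ⊕ P) ≤ Subgroup.closure (insert (glueσ P D)
      (Set.range fun x => (altInl (K ⊕ P) P x).1)) := by
  have huv : (Sum.inl (Sum.inl k1) : (K ⊕ P) ⊕ P) ≠ .inl (.inl k2) := by simpa using h12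
  refine (closure_star_c3 huv).ge.trans ?_
  rw [Subgroup.closure_le]
  rintro _ ⟨i | p, hi1, hi2, rfl⟩
  · refine Subgroup.subset_closure (Or.inr ⟨t3 i (.inl k1) (.inl k2), ?_⟩)
    simp only [altInl_t3]
    exact coe_t3 hi1 hi2 huv
  · have h1 : glueσ P D ∈ Subgroup.closure (insert (glueσ P D)
      (Set.range fun x => (altInl (K ⊕ P) P x).1)) := Subgroup.subset_closure (Or.inl rfl)
    have h2 := Subgroup.subset_closure (k := insert (glueσ P D)
      (Set.range fun x => (altInl (K ⊕ P) P x).1))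
      (Or.inr ⟨t3 (.inr p) (.inl (D⁻¹ k1)) (.inl (D⁻¹ k2)), rfl⟩)
    have h3 := mul_mem (mul_mem h1 h2) (inv_mem h1)
    simp only [altInl_t3] at h3
    rw [coe_t3 (by simp) (by simp) (by simpa), conj_c3, glueσ_inl_inl, glueσ_inl_inl,
      glueσ_inl_inr] at h3
    simpa using h3

theorem glue_commute (D : Perm K) {k1 k2 k5 k6 : K} (h15 : k1 ≠ k5) (h16 : k1 ≠ k6)
    (h25 : k2 ≠ k5) (h26 : k2 ≠ k6) (e f : alternatingGroup (K ⊕ P))
    (he : ∀ a, a ≠ k1 → a ≠ k2 → e.1 (.inl a) = .inl a)
    (hf : ∀ a, a ≠ k5 → a ≠ k6 → f.1 (.inl a) = .inl a) :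
    Commute (altInl (K ⊕ P) P e).1 (glueσ P D * (altInl (K ⊕ P) P
      ((MulAut.conjNormal (Perm.sumCongr D (1 : Perm P))).symm f)).1 * (glueσ P D)⁻¹) := by
  have h : glueσ P D * (altInl (K ⊕ P) P
      ((MulAut.conjNormal (Perm.sumCongr D (1 : Perm P))).symm f)).1 * (glueσ P D)⁻¹ =
      mirror K P * Perm.sumCongr f.1 1 * mirror K P := by
    rw [coe_altInl, MulAut.conjNormal_symm_apply, glueσ, mul_inv_rev, mirror_inv]
    generalize Perm.sumCongr D (1 : Perm P) = E
    simp only [mul_assoc]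
    congr 1
    simp only [← mul_assoc]
    congr 1
    simp [Perm.sumCongr_mul, Perm.sumCongr_inv, mul_assoc]
  rw [h]
  apply Perm.Disjoint.commute
  rintro ((k | p) | p)
  · by_cases hk : k = k1 ∨ k = k2
    · right
      have : f.1 (.inl k) = .inl k := by
        rcases hk with rfl | rfl
        · exact hf _ h15 h16
        · exact hf _ h25 h26
      simp [mirror_inl_inl, this]
    · left
      push Not at hk
      simp [coe_altInl, he k hk.1 hk.2]
  · right; rfl
  · left; rfl

omit [DecidableEq K] [DecidableEq P] in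
theorem card_glue : Fintype.card ((K ⊕ P) ⊕ P) = Fintype.card K + 2 * Fintype.card P := by
  simp only [Fintype.card_sum]; ring

omit [DecidableEq K] in
theorem exists_six (h6 : 6 ≤ Fintype.card K) : ∃ k : Fin 6 → K, Function.Injective k := by
  obtain ⟨f⟩ : Nonempty (Fin 6 ↪ K) := Function.Embedding.nonempty_of_card_le (by simpa using h6)
  exact ⟨f, f.injective⟩

theorem glue_sym (h6 : 6 ≤ Fintype.card K) {X : Type} {π : X → alternatingGroup (K ⊕ P)} {r : ℕ}
    (h : HasPres π r) : ∃ σ : Perm ((K ⊕ P) ⊕ P),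
      HasPres (fun o : Option X => o.elim σ fun x => (altInl (K ⊕ P) P (π x)).1) (r + 3) := by
  obtain ⟨k, hk⟩ := exists_six h6
  have hne : ∀ i j : Fin 6, i ≠ j → k i ≠ k j := fun i j hij => hk.ne hij
  obtain ⟨D, a, b, c, hD, ab, ac, bc, hgen⟩ :=
    exists_sq_generator (α := K) (by omega) (-Perm.sign (mirror K P))
  obtain ⟨e, he1, he2⟩ := exists_even_cycle_through (P := P) (k 0) (k 1) (hne _ _ (by decide))
  obtain ⟨f, hf1, hf2⟩ := exists_even_cycle_through (P := P) (k 4) (k 5) (hne _ _ (by decide))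
  have hsign : Perm.sign (glueσ P D) = -1 := by
    rw [sign_glueσ, hD, mul_neg, Int.units_mul_self]
  refine ⟨glueσ P D, h.extend ((alternatingGroup _).subtype.comp (altInl (K ⊕ P) P)) (glueσ P D)
    [of none ^ 2 * (of (some (altInl K P (sqAlt D))))⁻¹,
     of none * of (some (altInl K P (t3 a b c))) * (of none)⁻¹ *
      (of (some (altInl K P (t3 (D a) (D b) (D c)))))⁻¹,
     of (some e) * (of none * of (some
      ((MulAut.conjNormal (Perm.sumCongr D (1 : Perm P))).symm f)) * (of none)⁻¹) *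
      ((of none * of (some ((MulAut.conjNormal (Perm.sumCongr D (1 : Perm P))).symm f)) *
        (of none)⁻¹) * of (some e))⁻¹] ?_ ?_ ?_⟩
  · exact eq_top_of_alt_le_of_odd (glue_generate D (hne 0 1 (by decide)))
      (Subgroup.subset_closure (Or.inl rfl)) hsign
  · simp only [List.mem_cons, List.not_mem_nil, or_false, forall_eq_or_imp, forall_eq, map_mul,
      map_pow, map_inv, lift_apply_of, Option.elim_none, Option.elim_some, mul_inv_eq_one,
      MonoidHom.comp_apply, Subgroup.subtype_apply]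
    refine ⟨glueσ_sq D, ?_, ?_⟩
    · have := congrArg Subtype.val (conjNormal_t3 (glueσ P D) (.inl (.inl a)) (.inl (.inl b))
        (.inl (.inl c)))
      simpa only [altInl_t3, glueσ_inl_inl, MulAut.conjNormal_apply] using this
    · exact (glue_commute D (hne 0 4 (by decide)) (hne 0 5 (by decide)) (hne 1 4 (by decide))
        (hne 1 5 (by decide)) e f he1 hf1).eq
  · intro J _ ι Y htop hrel
    simp only [List.mem_cons, List.not_mem_nil, or_false, forall_eq_or_imp, forall_eq, map_mul,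
      map_pow, map_inv, lift_apply_of, Option.elim_none, Option.elim_some, mul_inv_eq_one] at hrel
    obtain ⟨h1, h2, h3⟩ := hrel
    obtain ⟨N, hN, hfin, hcard, hle⟩ := glue_card D ab ac bc hgen (hne 0 1 (by decide))
      (hne 0 2 (by decide)) (hne 0 3 (by decide)) (hne 1 2 (by decide)) (hne 1 3 (by decide))
      (hne 2 3 (by decide)) (hne 4 2 (by decide)) (hne 4 3 (by decide)) e f
      (he1 _ (hne _ _ (by decide)) (hne _ _ (by decide)))
      (he1 _ (hne _ _ (by decide)) (hne _ _ (by decide))) he2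
      (hf1 _ (hne _ _ (by decide)) (hne _ _ (by decide)))
      (hf1 _ (hne _ _ (by decide)) (hne _ _ (by decide)))
      (hf1 _ (hne _ _ (by decide)) (hne _ _ (by decide)))
      (hf1 _ (hne _ _ (by decide)) (hne _ _ (by decide))) hf2 ι Y htop h1 h2 h3
    obtain ⟨hf, hc⟩ := card_le_of_normal N htop (fun x hx => hle hx) two_pos
      (by rw [h1]; exact hle ⟨_, rfl⟩)
    refine ⟨hf, ?_⟩
    rw [Nat.card_perm, Nat.card_eq_fintype_card (α := (K ⊕ P) ⊕ P), card_glue]
    omega

theorem exists_glue_cycle (h6 : 6 ≤ Fintype.card K) (a b c : K) :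
    ∃ (u : Perm (K ⊕ P)) (l : ℕ), Odd l ∧ ¬ 3 ∣ l ∧ u (.inl a) = .inl a ∧ u (.inl b) = .inl b ∧
      u (.inl c) = .inl c ∧ (mirror K P * Perm.sumCongr u 1) ^ l = 1 := by
  obtain ⟨T0, hT0, hodd, h3⟩ : ∃ T0 : Finset K, T0 ⊆ Finset.univ \ {a, b, c} ∧ Odd T0.card ∧
      ¬ 3 ∣ T0.card + 2 * Fintype.card P := by
    have hc : 3 ≤ (Finset.univ \ {a, b, c} : Finset K).card := by
      have := Finset.le_card_sdiff ({a, b, c} : Finset K) Finset.univ
      have h2 : ({a, b, c} : Finset K).card ≤ 3 := Finset.card_le_three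
      rw [Finset.card_univ] at this
      omega
    by_cases h : 3 ∣ 1 + 2 * Fintype.card P
    · obtain ⟨T, hT, hTc⟩ := Finset.exists_subset_card_eq hc
      exact ⟨T, hT, by rw [hTc]; decide, by omega⟩
    · obtain ⟨T, hT, hTc⟩ := Finset.exists_subset_card_eq (le_trans (by omega : 1 ≤ 3) hc)
      exact ⟨T, hT, by rw [hTc]; decide, by omega⟩
  let T : Finset (K ⊕ P) := T0.disjSum Finset.univ
  let T' : Finset ((K ⊕ P) ⊕ P) := T.disjSum Finset.univ
  obtain ⟨u, hu, hs⟩ := Finset.exists_cycleOn T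
  have hfix : ∀ k, k ∉ T0 → u (.inl k) = .inl k := fun k hk =>
    Perm.notMem_support.mp fun h => hk (by simpa [T] using hs h)
  set g := mirror K P * Perm.sumCongr u 1 with hg
  have hsupp : g.support ⊆ T' := by
    rintro ((k | p) | p) hx
    · by_contra hk
      have := hfix k (by simpa [T', T] using hk)
      exact Perm.mem_support.mp hx (by simp [hg, this, mirror_inl_inl])
    · simp [T', T]
    · simp [T']
  have hstep : ∀ x, g.SameCycle (.inl x) (.inl (u x)) := by
    intro x
    rcases hx : u x with k | p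
    · exact ⟨1, by simp [hg, hx, mirror_inl_inl]⟩
    · exact ⟨2, by rw [zpow_two]; simp [hg, hx, mirror_inl_inr, mirror_inr]⟩
  have hpow : ∀ (n : ℕ) x, g.SameCycle (.inl x) (.inl ((u ^ n) x)) := by
    intro n x
    induction n with
    | zero => exact Perm.SameCycle.rfl
    | succ n ih => rw [pow_succ', Perm.mul_apply]; exact ih.trans (hstep _)
  have hTT : ∀ x ∈ T, ∀ y ∈ T, g.SameCycle (.inl x) (.inl y) := by
    intro x hx y hy
    obtain ⟨n, -, rfl⟩ := hu.exists_pow_eq hx hy
    exact hpow n x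
  have hred : ∀ x ∈ T', ∃ y ∈ T, g.SameCycle x (.inl y) := by
    rintro (x | p) hx
    · exact ⟨x, by simpa [T'] using hx, Perm.SameCycle.rfl⟩
    · exact ⟨.inr p, by simp [T], 1, by simp [hg, mirror_inr]⟩
  have hcyc : g.IsCycleOn T' := by
    refine ⟨g.bijOn fun x => ?_, fun x hx y hy => ?_⟩
    · by_cases hx : x ∈ g.support
      · exact iff_of_true (hsupp (Perm.apply_mem_support.mpr hx)) (hsupp hx)
      · rw [Perm.notMem_support.mp hx]
    · obtain ⟨x', hx', h1⟩ := hred x hx
      obtain ⟨y', hy', h2⟩ := hred y hy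
      exact (h1.trans (hTT x' hx' y' hy')).trans h2.symm
  have hcard : T'.card = T0.card + 2 * Fintype.card P := by
    simp [T', T]; ring
  have hn : ∀ k ∈ ({a, b, c} : Finset K), k ∉ T0 := fun k hk h =>
    (Finset.mem_sdiff.mp (hT0 h)).2 hk
  refine ⟨u, T'.card, ?_, by rwa [hcard], hfix a (hn a (by simp)), hfix b (hn b (by simp)),
    hfix c (hn c (by simp)), cycleOn_pow_card hcyc hsupp⟩
  rw [hcard]
  exact hodd.add_even (even_two_mul _)

theorem merge_relation {J : Type*} [Group J] {G z : J} {l : ℕ} (hl : ¬ 3 ∣ l) (hz : z ^ 3 = 1)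
    (h : (G * z) ^ l = z ^ l) : Commute G z ∧ G ^ l = 1 := by
  have h1 : (z ^ l) ^ l = z := by
    rw [← pow_mul, pow_eq_pow_mod _ hz]
    have : l * l % 3 = 1 := by
      have : l % 3 = 1 ∨ l % 3 = 2 := by omega
      rcases this with h | h <;> simp [Nat.mul_mod, h]
    rw [this, pow_one]
  have h2 : Commute (G * z) z := by
    have : Commute (G * z) (((G * z) ^ l) ^ l) := ((Commute.refl _).pow_right _).pow_right _
    rwa [h, h1] at this
  have h3 : Commute G z := by
    have := h2.mul_left (Commute.refl z).inv_left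
    simpa using this
  refine ⟨h3, ?_⟩
  rw [h3.mul_pow] at h
  exact mul_eq_right.mp h

theorem glue_alt (h6 : 6 ≤ Fintype.card K) {X : Type} {π : X → alternatingGroup (K ⊕ P)} {r : ℕ}
    (h : HasPres π r) : ∃ σ : alternatingGroup ((K ⊕ P) ⊕ P),
      HasPres (fun o : Option X => o.elim σ fun x => altInl (K ⊕ P) P (π x)) (r + 3) := by
  obtain ⟨k, hk⟩ := exists_six h6
  have hne : ∀ i j : Fin 6, i ≠ j → k i ≠ k j := fun i j hij => hk.ne hij
  obtain ⟨D, a, b, c, hD, ab, ac, bc, hgen⟩ :=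
    exists_sq_generator (α := K) (by omega) (Perm.sign (mirror K P))
  obtain ⟨e, he1, he2⟩ := exists_even_cycle_through (P := P) (k 0) (k 1) (hne _ _ (by decide))
  obtain ⟨f, hf1, hf2⟩ := exists_even_cycle_through (P := P) (k 4) (k 5) (hne _ _ (by decide))
  have hsign : Perm.sign (glueσ P D) = 1 := by
    rw [sign_glueσ, hD, Int.units_mul_self]
  obtain ⟨u, l, hl, hl3, hua, hub, huc, hul⟩ := exists_glue_cycle (P := P) h6 (D a) (D b) (D c)
  have hg : glueσ P D * Perm.sumCongr ((Perm.sumCongr D 1)⁻¹ * u) 1 =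
      mirror K P * Perm.sumCongr u 1 := by
    rw [glueσ, mul_assoc, Perm.sumCongr_mul, mul_inv_cancel_left, mul_one]
  let u' : alternatingGroup (K ⊕ P) := ⟨(Perm.sumCongr D 1)⁻¹ * u, by
    have := sign_eq_one_of_pow_odd hl hul
    rw [← hg, map_mul, hsign, one_mul, Perm.sign_sumCongr, map_one, mul_one] at this
    exact this⟩
  let σ : alternatingGroup ((K ⊕ P) ⊕ P) := ⟨glueσ P D, hsign⟩
  let z := altInl K P (t3 (D a) (D b) (D c))
  have hz3 : z ^ 3 = 1 := by
    rw [← map_pow, t3_pow_three (D.injective.ne ab) (D.injective.ne ac) (D.injective.ne bc),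
      map_one]
  have hu' : u' * z * u'⁻¹ = altInl K P (t3 a b c) := by
    simp only [z, altInl_t3, conj_t3, u', Perm.mul_apply, hua, hub, huc]
    simp [Perm.sumCongr_inv]
  refine ⟨σ, h.extend (altInl (K ⊕ P) P) σ
    [of none ^ 2 * (of (some (altInl K P (sqAlt D))))⁻¹,
     (of none * of (some u') * of (some z)) ^ l * (of (some z) ^ l)⁻¹,
     of (some e) * (of none * of (some
      ((MulAut.conjNormal (Perm.sumCongr D (1 : Perm P))).symm f)) * (of none)⁻¹) *
      ((of none * of (some ((MulAut.conjNormal (Perm.sumCongr D (1 : Perm P))).symm f)) *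
        (of none)⁻¹) * of (some e))⁻¹] ?_ ?_ ?_⟩
  · apply closure_alt_eq_top
    rw [Set.image_insert_eq, ← Set.range_comp]
    exact glue_generate D (hne 0 1 (by decide))
  · simp only [List.mem_cons, List.not_mem_nil, or_false, forall_eq_or_imp, forall_eq, map_mul,
      map_pow, map_inv, lift_apply_of, Option.elim_none, Option.elim_some, mul_inv_eq_one]
    refine ⟨Subtype.ext (glueσ_sq D), ?_, Subtype.ext ?_⟩
    · have h1 : Commute (σ * altInl (K ⊕ P) P u') (altInl (K ⊕ P) P z) := by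
        simp only [z, altInl_t3]
        have h0 : (σ * altInl (K ⊕ P) P u').1 = mirror K P * Perm.sumCongr u 1 := hg
        apply commute_t3_of_fix <;> rw [h0] <;> simp [hua, hub, huc, mirror_inl_inl]
      have h2 : (σ * altInl (K ⊕ P) P u') ^ l = 1 := by
        apply Subtype.ext
        rw [Subgroup.coe_pow, show (σ * altInl (K ⊕ P) P u').1 = _ from hg, hul]; rfl
      rw [h1.mul_pow, h2, one_mul]
    · exact (glue_commute D (hne 0 4 (by decide)) (hne 0 5 (by decide)) (hne 1 4 (by decide))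
        (hne 1 5 (by decide)) e f he1 hf1).eq
  · intro J _ ι Y htop hrel
    simp only [List.mem_cons, List.not_mem_nil, or_false, forall_eq_or_imp, forall_eq, map_mul,
      map_pow, map_inv, lift_apply_of, Option.elim_none, Option.elim_some, mul_inv_eq_one] at hrel
    obtain ⟨h1, h2, h3⟩ := hrel
    obtain ⟨h4, h5⟩ := merge_relation hl3 (by rw [← map_pow, hz3, map_one]) h2
    have h2' : Y * ι (altInl K P (t3 a b c)) * Y⁻¹ = ι z := by
      rw [← hu', map_mul, map_mul, map_inv]
      calc Y * (ι u' * ι z * (ι u')⁻¹) * Y⁻¹ = (Y * ι u' * ι z) * (Y * ι u')⁻¹ := by group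
        _ = ι z := by rw [h4.eq]; group
    obtain ⟨N, hN, hfin, hcard, hle⟩ := glue_card D ab ac bc hgen (hne 0 1 (by decide))
      (hne 0 2 (by decide)) (hne 0 3 (by decide)) (hne 1 2 (by decide)) (hne 1 3 (by decide))
      (hne 2 3 (by decide)) (hne 4 2 (by decide)) (hne 4 3 (by decide)) e f
      (he1 _ (hne _ _ (by decide)) (hne _ _ (by decide)))
      (he1 _ (hne _ _ (by decide)) (hne _ _ (by decide))) he2
      (hf1 _ (hne _ _ (by decide)) (hne _ _ (by decide)))
      (hf1 _ (hne _ _ (by decide)) (hne _ _ (by decide)))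
      (hf1 _ (hne _ _ (by decide)) (hne _ _ (by decide)))
      (hf1 _ (hne _ _ (by decide)) (hne _ _ (by decide))) hf2 ι Y htop h1 h2' h3
    have hY : Y ^ 1 ∈ N := by
      rw [← QuotientGroup.eq_one_iff]
      have e1 : ((Y : J ⧸ N)) ^ 2 = 1 := by
        rw [← QuotientGroup.mk_pow, QuotientGroup.eq_one_iff, h1]; exact hle ⟨_, rfl⟩
      have e2 : ((ι u' : J) : J ⧸ N) = 1 := (QuotientGroup.eq_one_iff _).mpr (hle ⟨_, rfl⟩)
      have e3 := congrArg (QuotientGroup.mk : J → J ⧸ N) h5
      rw [QuotientGroup.mk_pow, QuotientGroup.mk_mul, e2, mul_one, QuotientGroup.mk_one] at e3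
      obtain ⟨m, rfl⟩ := hl
      rwa [pow_succ, pow_mul, e1, one_pow, one_mul, ← pow_one Y] at e3
    obtain ⟨hf, hc⟩ := card_le_of_normal N htop (fun x hx => hle hx) one_pos hY
    refine ⟨hf, ?_⟩
    have : Nontrivial ((K ⊕ P) ⊕ P) :=
      ⟨.inl (.inl (k 0)), .inl (.inl (k 1)), by simpa using hne 0 1 (by decide)⟩
    have := two_mul_nat_card_alternatingGroup (α := (K ⊕ P) ⊕ P)
    rw [Nat.card_perm, Nat.card_eq_fintype_card (α := (K ⊕ P) ⊕ P), card_glue] at this
    omega

/-- Two more relations give the symmetric group. -/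
theorem sym_of_alt (h3 : 3 ≤ Fintype.card K) {X : Type} {π : X → alternatingGroup K} {r : ℕ}
    (h : HasPres π r) :
    ∃ σ : Perm K, HasPres (fun o : Option X => o.elim σ fun x => (π x).1) (r + 2) := by
  obtain ⟨D, a, b, c, hD, ab, ac, bc, hgen⟩ := exists_sq_generator (α := K) h3 (-1)
  refine ⟨D, h.extend (alternatingGroup K).subtype D
    [of none ^ 2 * (of (some (sqAlt D)))⁻¹,
     of none * of (some (t3 a b c)) * (of none)⁻¹ * (of (some (t3 (D a) (D b) (D c))))⁻¹]
     ?_ ?_ ?_⟩
  · exact eq_top_of_alt_le_of_odd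
      (fun x hx => Subgroup.subset_closure (Or.inr ⟨⟨x, hx⟩, rfl⟩))
      (Subgroup.subset_closure (Or.inl rfl)) hD
  · simp only [List.mem_cons, List.not_mem_nil, or_false, forall_eq_or_imp, forall_eq, map_mul,
      map_pow, map_inv, lift_apply_of, Option.elim_none, Option.elim_some, mul_inv_eq_one,
      Subgroup.subtype_apply]
    exact ⟨rfl, congrArg Subtype.val (conjNormal_t3 D a b c)⟩
  · intro J _ ι Y htop hrel
    simp only [List.mem_cons, List.not_mem_nil, or_false, forall_eq_or_imp, forall_eq, map_mul,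
      map_pow, map_inv, lift_apply_of, Option.elim_none, Option.elim_some, mul_inv_eq_one] at hrel
    obtain ⟨h1, h2⟩ := hrel
    have hconj := conj_eq_of_generator ι Y (MulAut.conjNormal D) (MonoidHom.id _) ab ac bc hgen
      (sqAlt D) rfl (conjNormal_sqAlt D) h1 (by rw [MonoidHom.id_apply, h2, conjNormal_t3])
    have hfin : Finite ι.range := Finite.of_surjective ι.rangeRestrict ι.rangeRestrict_surjective
    have hN : ι.range.Normal := by
      rw [← Subgroup.normalizer_eq_top_iff, eq_top_iff, ← htop, Subgroup.closure_le]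
      rintro y (rfl | ⟨x, rfl⟩)
      · refine Subgroup.mem_normalizer_fintype ?_
        rintro _ ⟨x, rfl⟩
        exact ⟨_, (hconj x).symm⟩
      · exact Subgroup.le_normalizer ⟨x, rfl⟩
    obtain ⟨hf, hc⟩ := card_le_of_normal ι.range htop (fun x hx => hx) two_pos
      (by rw [h1]; exact ⟨_, rfl⟩)
    refine ⟨hf, hc.trans ?_⟩
    have : Nontrivial K := ⟨a, b, ab⟩
    rw [← two_mul_nat_card_alternatingGroup]
    exact Nat.mul_le_mul_left _
      (Nat.card_le_card_of_surjective ι.rangeRestrict ι.rangeRestrict_surjective)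

end Cfsg.Agent.Alt
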