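import Cfsg.Agent.Lib.Alt.PresGlue2
import Cfsg.Agent.Lib.Alt.Bertrand

set_option autoImplicit false

namespace Cfsg.Agent.Alt

open Equiv Cfsg.Agent.Pres
open FreeGroup (lift of lift_apply_of)

theorem six_card {J : Type*} [Group J] (z a : J) (htop : Subgroup.closure {z, a} = ⊤)
    (hw : a ∈ Subgroup.normalClosure {z}) (h1 : z ^ 3 = 1) (h2 : a ^ 4 = 1)
    (h3 : (z * (a * z⁻¹ * a⁻¹)) ^ 2 = 1) (h4 : (z * (a * a * z * a⁻¹ * a⁻¹)) ^ 2 = 1) :
    Finite J ∧ 2 * Nat.card J ≤ (4 + 2).factorial := by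
  let x : Fin 4 → J := ![z, a * z⁻¹ * a⁻¹, a * a * z * a⁻¹ * a⁻¹,
    a * a * a * z⁻¹ * a⁻¹ * a⁻¹ * a⁻¹]
  have hx : ∀ i, a * x i * a⁻¹ = (x (i + 1))⁻¹ := by
    intro i
    fin_cases i
    · simp [x, mul_assoc]
    · simp [x, mul_assoc]
    · simp [x, mul_assoc]
    · change a * (a * a * a * z⁻¹ * a⁻¹ * a⁻¹ * a⁻¹) * a⁻¹ = z⁻¹
      calc a * (a * a * a * z⁻¹ * a⁻¹ * a⁻¹ * a⁻¹) * a⁻¹ = a ^ 4 * z⁻¹ * (a ^ 4)⁻¹ := by
            simp [pow_succ, mul_assoc]
        _ = z⁻¹ := by rw [h2]; simp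
  have hstep : ∀ i j, (x i * x j) ^ 2 = 1 → (x (i + 1) * x (j + 1)) ^ 2 = 1 := by
    intro i j h
    have := sq_inv_mul_inv (sq_conj a h)
    rwa [hx, hx, inv_inv, inv_inv] at this
  have h01 : (x 0 * x 1) ^ 2 = 1 := h3
  have h02 : (x 0 * x 2) ^ 2 = 1 := h4
  have h12 : (x 1 * x 2) ^ 2 = 1 := hstep 0 1 h01
  have h23 : (x 2 * x 3) ^ 2 = 1 := hstep 1 2 h12
  have h30 : (x 3 * x 0) ^ 2 = 1 := hstep 2 3 h23
  have h13 : (x 1 * x 3) ^ 2 = 1 := hstep 0 2 h02
  have h3' : ∀ i, x i ^ 3 = 1 := by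
    have hs : ∀ i, x i ^ 3 = 1 → x (i + 1) ^ 3 = 1 := by
      intro i h
      rw [← inv_eq_one, ← inv_pow, ← hx, conj_pow, h]; simp
    have a0 : x 0 ^ 3 = 1 := h1
    intro i
    fin_cases i
    exacts [a0, hs 0 a0, hs 1 (hs 0 a0), hs 2 (hs 1 (hs 0 a0))]
  obtain ⟨hfin, hcard⟩ := carmichael_card_range x h3' (by
    intro i j hij
    fin_cases i <;> fin_cases j <;>
      first | exact absurd rfl hij | assumption | (apply sq_mul_comm; assumption))
  set N := Subgroup.closure (Set.range x) with hN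
  have hmem : ∀ i, x i ∈ N := fun i => Subgroup.subset_closure ⟨i, rfl⟩
  have hnorm : N.Normal := by
    rw [← Subgroup.normalizer_eq_top_iff, eq_top_iff, ← htop, Subgroup.closure_le]
    rintro y (rfl | rfl)
    · exact Subgroup.le_normalizer (hmem 0)
    · have : N ≤ N.comap (MulAut.conj y).toMonoidHom := by
        rw [hN, Subgroup.closure_le]
        rintro _ ⟨j, rfl⟩
        change y * x j * y⁻¹ ∈ N
        rw [hx]; exact inv_mem (hmem _)
      exact Subgroup.mem_normalizer_fintype fun n hn => this hn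
  have haN : a ∈ N := Subgroup.normalClosure_le_normal (Set.singleton_subset_iff.mpr (hmem 0)) hw
  have hNtop : N = ⊤ := by
    rw [eq_top_iff, ← htop, Subgroup.closure_le]
    rintro y (rfl | rfl)
    · exact hmem 0
    · exact haN
  rw [hNtop] at hfin hcard
  rw [Subgroup.card_top, Fintype.card_fin] at hcard
  exact ⟨Finite.of_equiv _ Subgroup.topEquiv.toEquiv, hcard⟩

theorem range_fin_two {J : Type*} (f : Fin 2 → J) : Set.range f = {f 0, f 1} := by
  ext x; simp [Fin.exists_fin_two, eq_comm]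

theorem six_pres :
    ∃ π : Fin 2 → alternatingGroup (Fin 6), (π 0).1.IsThreeCycle ∧ HasPres π 5 := by
  let a : alternatingGroup (Fin 6) :=
    ⟨swap 0 3 * swap 0 2 * swap 0 1 * swap 4 5, by
      rw [Perm.mem_alternatingGroup]; simp⟩
  let z : alternatingGroup (Fin 6) := t3 0 4 5
  have hz : z.1.IsThreeCycle := by
    simp only [z]
    rw [coe_t3 (by simp) (by simp) (by simp)]
    exact c3_isThreeCycle (by simp) (by simp) (by simp)
  let π : Fin 2 → alternatingGroup (Fin 6) := ![z, a]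
  have htop : Subgroup.closure (Set.range π) = ⊤ := by
    rw [eq_top_iff, ← closure_star_t3 (u := (4 : Fin 6)) (v := 5) (by simp),
      Subgroup.closure_le]
    rintro _ ⟨⟨i, hi1, hi2⟩, rfl⟩
    have hz' : z ∈ Subgroup.closure (Set.range π) := Subgroup.subset_closure ⟨0, rfl⟩
    have ha' : a ∈ Subgroup.closure (Set.range π) := Subgroup.subset_closure ⟨1, rfl⟩
    have hc : ∀ g ∈ Subgroup.closure (Set.range π), a * g⁻¹ * a⁻¹ ∈
      Subgroup.closure (Set.range π) := fun g hg =>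
        mul_mem (mul_mem ha' (inv_mem hg)) (inv_mem ha')
    have e1 : a * z⁻¹ * a⁻¹ = t3 1 4 5 := by decide
    have e2 : a * (t3 1 4 5)⁻¹ * a⁻¹ = t3 2 4 5 := by decide
    have e3 : a * (t3 2 4 5)⁻¹ * a⁻¹ = t3 3 4 5 := by decide
    have m1 := hc _ hz'
    rw [e1] at m1
    have m2 := hc _ m1
    rw [e2] at m2
    have m3 := hc _ m2
    rw [e3] at m3
    fin_cases i
    exacts [hz', m1, m2, m3, absurd rfl hi1, absurd rfl hi2]
  have hsurj := FreeGroup.lift_surjective_iff_closure_range_eq_top.mpr htop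
  obtain ⟨W, hW1, hW2⟩ : a ∈ (Subgroup.normalClosure {of (0 : Fin 2)}).map (lift π) := by
    rw [Subgroup.map_normalClosure _ _ hsurj]
    simp only [Set.image_singleton, lift_apply_of]
    have := alternatingGroup.isSimpleGroup (α := Fin 6) (by simp)
    rcases (Subgroup.normalClosure_normal (s := {z})).eq_bot_or_eq_top with h | h
    · have h1 : z ∈ Subgroup.normalClosure {z} := Subgroup.subset_normalClosure rfl
      rw [h, Subgroup.mem_bot] at h1
      exact absurd (congrArg Subtype.val h1) hz.ne_one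
    · change a ∈ Subgroup.normalClosure {z}
      rw [h]; trivial
  refine ⟨π, hz, HasPres.of_card [of 0 ^ 3, of 1 ^ 4,
    (of 0 * (of 1 * (of 0)⁻¹ * (of 1)⁻¹)) ^ 2,
    (of 0 * (of 1 * of 1 * of 0 * (of 1)⁻¹ * (of 1)⁻¹)) ^ 2, W * (of 1)⁻¹] htop ?_ ?_⟩
  · simp only [List.mem_cons, List.not_mem_nil, or_false, forall_eq_or_imp, forall_eq, map_mul,
      map_pow, map_inv, lift_apply_of, hW2]
    change z ^ 3 = 1 ∧ a ^ 4 = 1 ∧ (z * (a * z⁻¹ * a⁻¹)) ^ 2 = 1 ∧
      (z * (a * a * z * a⁻¹ * a⁻¹)) ^ 2 = 1 ∧ a * a⁻¹ = 1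
    refine ⟨by decide, by decide, by decide +kernel, by decide +kernel, mul_inv_cancel a⟩
  · intro J _ f hf hrel
    simp only [List.mem_cons, List.not_mem_nil, or_false, forall_eq_or_imp, forall_eq, map_mul,
      map_pow, map_inv, lift_apply_of, mul_inv_eq_one] at hrel
    obtain ⟨h1, h2, h3, h4, h5⟩ := hrel
    rw [range_fin_two] at hf
    have hw : lift f W ∈ Subgroup.normalClosure {f 0} := by
      have : Subgroup.normalClosure {of (0 : Fin 2)} ≤
          (Subgroup.normalClosure {f 0}).comap (lift f) := by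
        apply Subgroup.normalClosure_le_normal
        rintro _ rfl
        exact Subgroup.subset_normalClosure (by simp)
      exact this hW1
    obtain ⟨hfin, hcard⟩ := six_card (f 0) (f 1) hf (h5 ▸ hw) h1 h2 h3 h4
    refine ⟨hfin, ?_⟩
    have := two_mul_nat_card_alternatingGroup (α := Fin 6)
    rw [Nat.card_perm, Nat.card_eq_fintype_card (α := Fin 6), Fintype.card_fin] at this
    change _ ≤ Nat.factorial 6 at hcard
    omega

theorem isThreeCycle_permCongr {α β : Type*} [Fintype α] [DecidableEq α] [Fintype β]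
    [DecidableEq β] (e : α ≃ β) {g : Perm α} (hg : g.IsThreeCycle) :
    Perm.IsThreeCycle (e.permCongr g) := by
  obtain ⟨a, b, c, ab, ac, bc, rfl⟩ := IsThreeCycle.exists_c3 hg
  have : e.permCongr (c3 a b c) = c3 (e a) (e b) (e c) := by
    have hs : ∀ a b, e.permCongr (swap a b) = swap (e a) (e b) := by
      intro a b
      ext x
      obtain ⟨y, rfl⟩ := e.surjective x
      simp only [permCongr_apply, symm_apply_apply, swap_apply_def, e.injective.eq_iff,
        apply_ite e]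
    rw [c3, c3, ← hs, ← hs]
    exact map_mul e.permCongrHom _ _
  rw [this]
  exact c3_isThreeCycle (e.injective.ne ab) (e.injective.ne ac) (e.injective.ne bc)

theorem isThreeCycle_altInl {α β : Type*} [Fintype α] [DecidableEq α] [Fintype β]
    [DecidableEq β] {g : alternatingGroup α} (hg : g.1.IsThreeCycle) :
    (altInl α β g).1.IsThreeCycle := by
  obtain ⟨a, b, c, ab, ac, bc, h⟩ := IsThreeCycle.exists_c3 hg
  have : g = t3 a b c := Subtype.ext (by rw [h, coe_t3 ab ac bc])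
  rw [this, altInl_t3, coe_t3 (by simpa) (by simpa) (by simpa)]
  exact c3_isThreeCycle (by simpa) (by simpa) (by simpa)

/-- Two generators and `r` relations give three generators and `r + 1` relations. -/
theorem pad_pres {G : Type*} [Group G] {π : Fin 2 → G} {r : ℕ} (h : HasPres π r) :
    HasPres (fun o : Option (Fin 2) => o.elim 1 π) (r + 1) := by
  have := h.tietze (fun o : Option (Fin 2) => o.elim 1 π) (fun x => of (some x))
    (fun o => o.elim 1 of) (by simp) (by rintro (_ | x) <;> simp) {none}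
    (by rintro (_ | x) <;> simp)
  simpa using this

/-- The main theorem: three generators, one of them a 3-cycle, and seven relations. -/
theorem main_pres (n : ℕ) (hn : 5 ≤ n) :
    (∃ π : Option (Fin 2) → alternatingGroup (Fin n),
      (π (some 0)).1.IsThreeCycle ∧ HasPres π 7) ∧
    (∃ π : Option (Fin 2) → Perm (Fin n), (π (some 0)).IsThreeCycle ∧ HasPres π 7) := by
  have small : ∀ m, 3 ≤ m → (∃ π : Fin 2 → alternatingGroup (Fin m),
      (π 0).1.IsThreeCycle ∧ HasPres π 5) →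
      (∃ π : Option (Fin 2) → alternatingGroup (Fin m),
      (π (some 0)).1.IsThreeCycle ∧ HasPres π 7) ∧
      (∃ π : Option (Fin 2) → Perm (Fin m), (π (some 0)).IsThreeCycle ∧ HasPres π 7) := by
    rintro m hm ⟨π, h1, h2⟩
    obtain ⟨σ, hσ⟩ := sym_of_alt (by simpa using hm) h2
    exact ⟨⟨_, h1, (pad_pres h2).mono (by omega)⟩, ⟨_, h1, hσ⟩⟩
  by_cases h5 : n = 5
  · subst h5
    apply small 5 (by omega)
    have : Fact (Nat.Prime 3) := ⟨by norm_num⟩
    obtain ⟨π, h1, h2⟩ := base_pres 3 (by omega)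
    let e : ZMod 3 ⊕ Bool ≃ Fin 5 := Fintype.equivFinOfCardEq (by simp)
    exact ⟨_, isThreeCycle_permCongr e h1, (h2.map_equiv e.altCongrHom).mono (by omega)⟩
  by_cases h6 : n = 6
  · subst h6
    exact small 6 (by omega) six_pres
  obtain ⟨p, hp, hp1, hp2⟩ := sharp_bertrand ((n + 1) / 2) (by omega)
  have : Fact p.Prime := ⟨hp⟩
  obtain ⟨π, h1, h2⟩ := base_pres p (by omega)
  let e1 : ZMod p ⊕ Bool ≃ Fin (2 * p + 4 - n) ⊕ Fin (n - (p + 2)) :=
    Fintype.equivOfCardEq (by simp; omega)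
  let e2 : (Fin (2 * p + 4 - n) ⊕ Fin (n - (p + 2))) ⊕ Fin (n - (p + 2)) ≃ Fin n :=
    Fintype.equivFinOfCardEq (by simp; omega)
  have h3 := h2.map_equiv e1.altCongrHom
  have h4 : (e1.altCongrHom (π 0)).1.IsThreeCycle := isThreeCycle_permCongr e1 h1
  obtain ⟨σ, hσ⟩ := glue_alt (by simp; omega) h3
  obtain ⟨τ, hτ⟩ := glue_sym (by simp; omega) h3
  exact ⟨⟨_, isThreeCycle_permCongr e2 (isThreeCycle_altInl h4), hσ.map_equiv e2.altCongrHom⟩,
    ⟨_, isThreeCycle_permCongr e2 (isThreeCycle_altInl h4), hτ.map_equiv e2.permCongrHom⟩⟩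

end Cfsg.Agent.Alt
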