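import Cfsg.Agent.Lib.Alt.PresMain

set_option autoImplicit false

namespace Cfsg.Agent.Alt

open Equiv Cfsg.Agent.Pres
open FreeGroup (lift of lift_apply_of)

/-- Carmichael's presentation. -/
theorem carmichael_pres {α : Type} [Fintype α] [DecidableEq α] {u v : α} (uv : u ≠ v) :
    HasPres (fun i : {i // i ≠ u ∧ i ≠ v} => t3 i.1 u v)
      ((Fintype.card α - 2) * (Fintype.card α - 2)) := by
  let I := {i // i ≠ u ∧ i ≠ v}
  have hI : Fintype.card I = Fintype.card α - 2 := by
    have := card_ne_ne uv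
    simp only [I]; omega
  refine (HasPres.of_card ((Finset.univ : Finset (I × I)).toList.map
    fun p => if p.1 = p.2 then of p.1 ^ 3 else (of p.1 * of p.2) ^ 2)
    (closure_star_t3 uv) ?_ ?_).mono (by simp [hI])
  · intro w hw
    obtain ⟨⟨i, j⟩, -, rfl⟩ := List.mem_map.mp hw
    split_ifs with h
    · rw [map_pow, lift_apply_of]
      exact t3_pow_three i.2.1 i.2.2 uv
    · rw [map_pow, map_mul, lift_apply_of, lift_apply_of]
      exact t3_mul_sq (fun h' => h (Subtype.ext h')) i.2.1 i.2.2 j.2.1 j.2.2 uv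
  · intro J _ f hf hrel
    obtain ⟨hfin, hcard⟩ := carmichael_card_range f
      (fun i => by
        have := hrel _ (List.mem_map_of_mem (a := (i, i)) (by simp))
        simpa using this)
      (fun i j hij => by
        have := hrel _ (List.mem_map_of_mem (a := (i, j)) (by simp))
        simpa [hij] using this)
    rw [hf] at hfin hcard
    refine ⟨Finite.of_equiv _ Subgroup.topEquiv.toEquiv, ?_⟩
    have : Nontrivial α := ⟨u, v, uv⟩
    have := two_mul_nat_card_alternatingGroup (α := α)
    rw [Subgroup.card_top, card_ne_ne uv] at hcard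
    rw [Nat.card_perm, Nat.card_eq_fintype_card (α := α)] at this
    omega

theorem range_pair {G : Type*} (a b : G) : Set.range ![a, b] = {a, b} := range_fin_two _

theorem exists_pair_alt {α : Type*} [Fintype α] [DecidableEq α] (h3 : 3 ≤ Fintype.card α) :
    ∃ t d : alternatingGroup α, t.1.IsThreeCycle ∧ Subgroup.closure {t, d} = ⊤ := by
  obtain ⟨D, a, b, c, hD, ab, ac, bc, hgen⟩ := exists_sq_generator h3 1
  refine ⟨t3 a b c, ⟨D, hD⟩, by rw [coe_t3 ab ac bc]; exact c3_isThreeCycle ab ac bc, ?_⟩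
  apply closure_alt_eq_top
  refine hgen.trans ?_
  rw [Set.image_pair, coe_t3 ab ac bc, Subgroup.closure_le]
  rintro x (rfl | rfl)
  · exact pow_mem (Subgroup.subset_closure (by simp)) 2
  · exact Subgroup.subset_closure (by simp)

theorem exists_pair_sym {α : Type*} [Fintype α] [DecidableEq α] (h3 : 3 ≤ Fintype.card α) :
    ∃ t d : Perm α, t.IsThreeCycle ∧ Subgroup.closure {t, d} = ⊤ := by
  obtain ⟨D, a, b, c, hD, ab, ac, bc, hgen⟩ := exists_sq_generator h3 (-1)
  refine ⟨c3 a b c, D, c3_isThreeCycle ab ac bc, ?_⟩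
  refine eq_top_of_alt_le_of_odd (hgen.trans ?_) (Subgroup.subset_closure (by simp)) hD
  rw [Subgroup.closure_le]
  rintro x (rfl | rfl)
  · exact pow_mem (Subgroup.subset_closure (by simp)) 2
  · exact Subgroup.subset_closure (by simp)

theorem pres_pair_of_common {G X : Type*} [Group G] {π : X → G} {r : ℕ} (h : HasPres π r) (x : X)
    (d : G) (hgen : Subgroup.closure {π x, d} = ⊤) : HasPres ![π x, d] (r + 1) := by
  refine h.change_of_common ![π x, d] (by rw [range_pair, hgen]) {1} (fun _ => x) ?_ ?_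
  · rintro ⟨a, ha⟩ ⟨b, hb⟩ -
    have key : ∀ a : Fin 2, a ∉ ({1} : Finset (Fin 2)) → a = 0 := by decide
    exact Subtype.ext ((key a ha).trans (key b hb).symm)
  · rintro ⟨a, ha⟩
    have key : ∀ a : Fin 2, a ∉ ({1} : Finset (Fin 2)) → a = 0 := by decide
    obtain rfl := key a ha
    rfl

theorem pres_of_subsingleton (G : Type*) [Group G] [Subsingleton G] :
    HasPres (fun _ : Fin 2 => (1 : G)) 2 := by
  refine HasPres.of_card [of 0, of 1] (Subsingleton.elim _ _)
    (fun _ _ => Subsingleton.elim _ _) ?_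
  intro J _ f hf hrel
  simp only [List.mem_cons, List.not_mem_nil, or_false, forall_eq_or_imp, forall_eq,
    lift_apply_of] at hrel
  rw [range_fin_two, hrel.1, hrel.2] at hf
  have : Subsingleton J := by
    rw [← Subgroup.subsingleton_iff, ← subsingleton_iff_bot_eq_top, ← hf]
    symm
    simp
  exact ⟨inferInstance, by simp⟩

theorem pres_sym_two : HasPres ![swap (0 : Fin 2) 1, 1] 2 := by
  refine HasPres.of_card [of 0 ^ 2, of 1] ?_ ?_ ?_
  · rw [eq_top_iff]
    intro x _
    have : x = swap 0 1 ∨ x = 1 := (by decide : ∀ x : Perm (Fin 2), x = swap 0 1 ∨ x = 1) x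
    rcases this with rfl | rfl
    · exact Subgroup.subset_closure ⟨0, rfl⟩
    · exact one_mem _
  · simp [sq]
  · intro J _ f hf hrel
    simp only [List.mem_cons, List.not_mem_nil, or_false, forall_eq_or_imp, forall_eq,
      lift_apply_of, map_pow] at hrel
    rw [range_fin_two, hrel.2] at hf
    have := card_le_of_normal (⊥ : Subgroup J) hf (by simp) two_pos (by simpa using hrel.1)
    simpa [Fintype.card_perm] using this

theorem two_gen_pres (n : ℕ) :
    (∃ π : Fin 2 → Perm (Fin n), HasPres π 8) ∧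
    (∃ π : Fin 2 → alternatingGroup (Fin n), HasPres π 8) := by
  by_cases h5 : 5 ≤ n
  · obtain ⟨⟨π, h1, h2⟩, ⟨ρ, h3, h4⟩⟩ := main_pres n h5
    obtain ⟨t, d, ht, htd⟩ := exists_pair_alt (α := Fin n) (by simp; omega)
    obtain ⟨t', d', ht', htd'⟩ := exists_pair_sym (α := Fin n) (by simp; omega)
    obtain ⟨g, hg⟩ := isConj_iff.mp (Perm.isConj_iff_cycleType_eq.mpr (h1.trans ht.symm))
    obtain ⟨g', hg'⟩ := isConj_iff.mp (Perm.isConj_iff_cycleType_eq.mpr (h3.trans ht'.symm))
    refine ⟨⟨_, pres_pair_of_common (h4.map_equiv (MulAut.conj g')) (some 0) d' ?_⟩,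
      ⟨_, pres_pair_of_common (h2.map_equiv (MulAut.conjNormal g)) (some 0) d ?_⟩⟩
    · rwa [MulAut.conj_apply, hg']
    · have : MulAut.conjNormal g (π (some 0)) = t := Subtype.ext hg
      rwa [this]
  by_cases h3 : 3 ≤ n
  · have huv : (⟨0, by omega⟩ : Fin n) ≠ ⟨1, by omega⟩ := by simp
    have h1 := (carmichael_pres huv).mono (r' := 4) (by
      rw [Fintype.card_fin]; exact Nat.mul_le_mul (m₂ := 2) (n₂ := 2) (by omega) (by omega))
    obtain ⟨σ, h2⟩ := sym_of_alt (by simpa using h3) h1
    obtain ⟨t, d, -, htd⟩ := exists_pair_alt (α := Fin n) (by simp; omega)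
    obtain ⟨t', d', -, htd'⟩ := exists_pair_sym (α := Fin n) (by simp; omega)
    exact ⟨⟨_, h2.change ![t', d'] (by rw [range_pair, htd'])⟩,
      ⟨_, (h1.change ![t, d] (by rw [range_pair, htd])).mono (by simp)⟩⟩
  have hA : Subsingleton (alternatingGroup (Fin n)) := by
    rw [alternatingGroup.eq_bot_of_card_le_two (by simp; omega)]
    infer_instance
  refine ⟨?_, ⟨_, (pres_of_subsingleton _).mono (by omega)⟩⟩
  by_cases h2 : n = 2
  · subst h2
    exact ⟨_, pres_sym_two.mono (by omega)⟩
  · have : Subsingleton (Fin n) := Fin.subsingleton_iff_le_one.mpr (by omega)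
    exact ⟨_, (pres_of_subsingleton _).mono (by omega)⟩

end Cfsg.Agent.Alt
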