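import Cfsg.Agent.Lib.Alt.Sylow2
import Cfsg.Agent.Lib.Alt.Cycles

set_option autoImplicit false

namespace Cfsg.Agent.Alt

open Equiv Equiv.Perm MulAction
open scoped Pointwise

theorem exists_index_prime_ge {G : Type*} [Group G] [Finite G] {p : ℕ} [hp : Fact p.Prime]
    (hG : IsPGroup p G) {H : Subgroup G} (hH : H ≠ ⊤) : ∃ K : Subgroup G, H ≤ K ∧ K.index = p := by
  obtain ⟨m, hm⟩ := hG.exists_card_eq
  obtain ⟨j, hj⟩ := (hG.to_subgroup H).exists_card_eq
  have h1 : j < m := by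
    by_contra h2
    apply hH
    apply Subgroup.eq_top_of_le_card
    rw [hm, hj]
    exact Nat.pow_le_pow_right hp.out.pos (not_lt.1 h2)
  obtain ⟨m, rfl⟩ : ∃ m', m = m' + 1 := ⟨m - 1, by omega⟩
  obtain ⟨K, hK, hHK⟩ := Sylow.exists_subgroup_card_pow_prime_le p (n := j) (m := m)
    (hm ▸ pow_dvd_pow _ (Nat.le_succ m)) H hj (by omega)
  refine ⟨K, hHK, ?_⟩
  have h2 := K.card_mul_index
  rw [hK, hm, pow_succ] at h2
  exact Nat.eq_of_mul_eq_mul_left (pow_pos hp.out.pos m) h2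

variable {α : Type*} [DecidableEq α] [Fintype α]

theorem IsMatch.exists_even {P : Subgroup (Perm α)} {τ : Perm α} (h : IsMatch P τ)
    (h4 : 4 ≤ Fintype.card α) {p : Perm α} (hp : p ∈ P) (a : α) :
    ∃ q ∈ P, sign q = 1 ∧ q a = p a := by
  rcases Int.units_eq_one_or (sign p) with h1 | h1
  · exact ⟨p, hp, h1, rfl⟩
  · obtain ⟨c, hc, hc1, hc2⟩ := h.exists_avoid {a} (by simp; omega)
    simp only [Finset.mem_singleton] at hc1 hc2
    refine ⟨p * swap c (τ c), mul_mem hp (h.swap_mem c), ?_, ?_⟩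
    · rw [map_mul, h1, sign_swap hc.symm]; simp
    · rw [Perm.mul_apply, swap_apply_of_ne_of_ne (Ne.symm hc1) (Ne.symm hc2)]

theorem exists_trans_on {p : ℕ} [Fact p.Prime] (P : Sylow p (Perm α)) (T : Finset α)
    (hT : ∀ g ∈ (P : Subgroup (Perm α)), ∀ x, g x ∈ T ↔ x ∈ T) {k : ℕ} (hk : T.card = p ^ k)
    {a b : α} (ha : a ∈ T) (hb : b ∈ T) : ∃ g ∈ (P : Subgroup (Perm α)), g a = b := by
  obtain ⟨c, hc, hs⟩ := T.exists_cycleOn
  let D : Subgroup (Perm α) := stabilizer (Perm α) (T : Set α)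
  have hD : ∀ g : Perm α, g ∈ D ↔ ∀ x, g x ∈ T ↔ x ∈ T := by
    intro g
    simp only [D, mem_stabilizer_set, Perm.smul_def, Finset.mem_coe]
  have hcD : c ∈ D := by
    rw [hD]
    intro x
    by_cases hx : x ∈ T
    · exact iff_of_true (hc.apply_mem_iff.2 hx) hx
    · rw [notMem_support.1 fun h => hx (hs h)]
  obtain ⟨d, hd, h⟩ := exists_conj_mem_sylow P (fun g hg => (hD g).2 (hT g hg)) hcD (k := k)
    (hk ▸ cycleOn_pow_card hc hs)
  have hd' := (hD _).1 (inv_mem hd)
  obtain ⟨n, hn⟩ := hc.2 ((hd' a).2 ha) ((hd' b).2 hb)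
  refine ⟨(d * c * d⁻¹) ^ n, zpow_mem h n, ?_⟩
  rw [conj_zpow, Perm.mul_apply, Perm.mul_apply, hn, papply_inv]

theorem IsMatch.exists_fix {P : Subgroup (Perm α)} {τ : Perm α} (h : IsMatch P τ)
    (hodd : Odd (Fintype.card α)) : ∃ ω, τ ω = ω := by
  by_contra h1
  push Not at h1
  have h2 : τ.support = Finset.univ := Finset.eq_univ_of_forall fun x => mem_support.2 (h1 x)
  have h3 := two_mul_card_cycleFactors_invol h.invol
  rw [h2, Finset.card_univ] at h3
  rw [← h3] at hodd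
  exact (Nat.not_odd_iff_even.2 (even_two_mul _)) hodd

theorem IsMatch.no_fix {P : Subgroup (Perm α)} {τ : Perm α} (h : IsMatch P τ)
    (heven : Even (Fintype.card α)) (ω : α) : τ ω ≠ ω := by
  intro h1
  have h2 : τ.support = Finset.univ.erase ω := by
    ext x
    simp only [mem_support, Finset.mem_erase, Finset.mem_univ, and_true]
    exact not_congr ⟨fun h3 => h.fix _ _ h3 h1, fun h3 => h3 ▸ h1⟩
  have h3 := two_mul_card_cycleFactors_invol h.invol
  rw [h2, Finset.card_erase_of_mem (Finset.mem_univ _), Finset.card_univ] at h3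
  have h4 : 0 < Fintype.card α := Fintype.card_pos_iff.2 ⟨ω⟩
  obtain ⟨r, hr⟩ := heven
  omega

omit [Fintype α] in
theorem IsMatch.apply_fix {P : Subgroup (Perm α)} {τ : Perm α} (h : IsMatch P τ) {ω : α}
    (hω : τ ω = ω) {g : Perm α} (hg : g ∈ P) : g ω = ω :=
  h.fix _ _ (by rw [← h.comm g hg, hω]) hω

theorem mem_five (h5 : Fintype.card α = 5) {a b c d e : α} (ab : a ≠ b) (ac : a ≠ c) (ad : a ≠ d)
    (ae : a ≠ e) (bc : b ≠ c) (bd : b ≠ d) (be : b ≠ e) (cd : c ≠ d) (ce : c ≠ e) (de : d ≠ e)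
    (z : α) : z = a ∨ z = b ∨ z = c ∨ z = d ∨ z = e := by
  have h1 : ({a, b, c, d, e} : Finset α).card = 5 := by
    rw [Finset.card_insert_of_notMem (by simp [*]), Finset.card_insert_of_notMem (by simp [*]),
      Finset.card_insert_of_notMem (by simp [*]), Finset.card_pair de]
  have h2 := Finset.eq_univ_of_card _ (h1.trans h5.symm)
  have h3 : z ∈ ({a, b, c, d, e} : Finset α) := h2 ▸ Finset.mem_univ z
  simpa using h3

theorem double_mem_five (h5 : Fintype.card α = 5) (P : Sylow 2 (Perm α)) {τ : Perm α}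
    (h : IsMatch (P : Subgroup (Perm α)) τ) {ω : α} (hω : τ ω = ω) {w x y t : α}
    (h1 : w ≠ ω) (h2 : x ≠ ω) (h3 : y ≠ ω) (h4 : t ≠ ω) (wx : w ≠ x) (wy : w ≠ y) (wt : w ≠ t)
    (xy : x ≠ y) (xt : x ≠ t) (yt : y ≠ t) : swap w x * swap y t ∈ (P : Subgroup (Perm α)) := by
  have all := mem_five h5 h1.symm h2.symm h3.symm h4.symm wx wy wt xy xt yt
  have i1 := h.invol w
  have i2 := h.invol x
  have i3 := h.invol y
  have i4 := h.invol t
  have f1 := h.fix w ω
  have f2 := h.fix x ω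
  have f3 := h.fix y ω
  have f4 := h.fix t ω
  have a1 := all (τ w)
  have a2 := all (τ x)
  have a3 := all (τ y)
  have a4 := all (τ t)
  by_cases hx : τ w = x
  · have h6 : τ y = t := by grind
    exact mul_mem (hx ▸ h.swap_mem w) (h6 ▸ h.swap_mem y)
  obtain ⟨p, hp, hpw⟩ := exists_trans_on P (Finset.univ.erase ω) (k := 2)
    (fun g hg z => by
      simp only [Finset.mem_erase, Finset.mem_univ, and_true]
      conv_lhs => rw [← h.apply_fix hω hg]
      exact g.injective.ne_iff)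
    (by rw [Finset.card_erase_of_mem (Finset.mem_univ _), Finset.card_univ, h5]; rfl)
    (a := w) (b := x) (by simpa using h1) (by simpa using h2)
  have c0 := h.apply_fix hω hp
  have c1 := h.comm p hp w
  have c2 := h.comm p hp x
  have a5 := all (p x)
  have j1 : p x = p w ↔ x = w := p.injective.eq_iff
  have j2 : p x = p ω ↔ x = ω := p.injective.eq_iff
  have j3 : p x = p (τ w) ↔ x = τ w := p.injective.eq_iff
  by_cases hpx : p x = w
  · have : swap w x * swap y t = p := by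
      ext z
      have a6 := all z
      simp only [Perm.mul_apply, swap_apply_def]
      grind
    exact this ▸ hp
  · have : swap w x * swap y t = p * swap x (τ x) := by
      ext z
      have a6 := all z
      simp only [Perm.mul_apply, swap_apply_def]
      grind
    exact this ▸ mul_mem hp (h.swap_mem x)

theorem exists_threeCycle_moves (P : Sylow 2 (Perm α)) {τ : Perm α}
    (h : IsMatch (P : Subgroup (Perm α)) τ) {ω : α} (hω : τ ω = ω)
    (hn : Fintype.card α = 5 ∨ 8 ≤ Fintype.card α) {M : Subgroup (Perm α)}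
    (hM : ∀ p ∈ (P : Subgroup (Perm α)), sign p = 1 → p ∈ M) {m : Perm α} (hm : m ∈ M)
    (hmω : m ω ≠ ω) : ∃ t ∈ M, t.IsThreeCycle ∧ t ω ≠ ω := by
  obtain ⟨a, rfl⟩ : ∃ a, ω = m a := ⟨m⁻¹ ω, (papply_inv m ω).symm⟩
  have ha : a ≠ m a := fun h1 => hmω (by rw [← h1, ← h1])
  have hτa : τ a ≠ a := fun h1 => ha (h.fix _ _ h1 hω)
  have conj : ∀ c, τ c ≠ c → swap (m a) (m (τ a)) * swap (m c) (m (τ c)) ∈ M := by
    intro c hc
    have h1 := mul_mem (mul_mem hm (hM _ (mul_mem (h.swap_mem a) (h.swap_mem c))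
      (sign_swap_mul_swap hτa.symm hc.symm))) (inv_mem hm)
    have h2 : m * (swap a (τ a) * swap c (τ c)) * m⁻¹ =
        swap (m a) (m (τ a)) * swap (m c) (m (τ c)) := by
      simp only [swap_apply_apply]; group
    rwa [h2] at h1
  have inj : ∀ x y, m x = m y ↔ x = y := fun x y => m.injective.eq_iff
  have tinj : ∀ x y, τ x = τ y ↔ x = y := fun x y => τ.injective.eq_iff
  have i1 := h.invol a
  rcases hn with h5 | h8
  · obtain ⟨c, hc, hc1, hc2⟩ := h.exists_avoid {a} (by simp; omega)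
    simp only [Finset.mem_singleton] at hc1 hc2
    have i2 := h.invol c
    have h1 := conj c hc
    have h2 : swap (m (m a)) (m (τ a)) * swap (m c) (m (τ c)) ∈ M :=
      hM _ (double_mem_five h5 P h hω hmω (by grind) (by grind) (by grind) (by grind) (by grind)
        (by grind) (by grind) (by grind) (by grind)) (sign_swap_mul_swap (by grind) (by grind))
    have h3 : swap (m a) (m (τ a)) * swap (m c) (m (τ c)) *
        (swap (m (m a)) (m (τ a)) * swap (m c) (m (τ c)))⁻¹ = c3 (m a) (m (τ a)) (m (m a)) := by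
      simp only [mul_inv_rev, swap_inv]
      ext z
      simp only [c3, Perm.mul_apply, swap_apply_def]
      grind
    refine ⟨_, h3 ▸ mul_mem h1 (inv_mem h2), c3_isThreeCycle (by grind) (by grind) (by grind), ?_⟩
    rw [c3_apply_left (by grind) (by grind)]
    grind
  · obtain ⟨b', hb'⟩ : ∃ b', τ (m (τ a)) = m b' := ⟨m⁻¹ _, (papply_inv m _).symm⟩
    obtain ⟨c, hc, hc1, hc2⟩ := h.exists_avoid {a, b'}
      (by have := Finset.card_le_two (a := a) (b := b'); omega)
    obtain ⟨v, hv, hv1, hv2⟩ := h.exists_avoid {m (τ a), m c, m (τ c)}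
      (by have := Finset.card_le_three (a := m (τ a)) (b := m c) (c := m (τ c)); omega)
    simp only [Finset.mem_singleton, Finset.mem_insert, not_or] at hc1 hc2 hv1 hv2
    have i2 := h.invol c
    have i3 := h.invol v
    have i4 := h.invol (m (τ a))
    have f1 := h.fix (m (τ a)) (m a)
    have h1 := conj c hc
    have h2 : swap (m (τ a)) (τ (m (τ a))) * swap v (τ v) ∈ M :=
      hM _ (mul_mem (h.swap_mem _) (h.swap_mem v)) (sign_swap_mul_swap (by grind) hv.symm)
    have h3 : swap (m a) (m (τ a)) * swap (m c) (m (τ c)) *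
        (swap (m (τ a)) (τ (m (τ a))) * swap v (τ v)) *
        (swap (m a) (m (τ a)) * swap (m c) (m (τ c)))⁻¹ *
        (swap (m (τ a)) (τ (m (τ a))) * swap v (τ v))⁻¹ = c3 (m a) (m b') (m (τ a)) := by
      have e1 : (swap (m a) (m (τ a)) * swap (m c) (m (τ c))) (m (τ a)) = m a := by
        simp only [Perm.mul_apply, swap_apply_def]; grind
      have e2 : (swap (m a) (m (τ a)) * swap (m c) (m (τ c))) (τ (m (τ a))) = m b' := by
        simp only [Perm.mul_apply, swap_apply_def]; grind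
      have e3 : (swap (m a) (m (τ a)) * swap (m c) (m (τ c))) v = v := by
        simp only [Perm.mul_apply, swap_apply_def]; grind
      have e4 : (swap (m a) (m (τ a)) * swap (m c) (m (τ c))) (τ v) = τ v := by
        simp only [Perm.mul_apply, swap_apply_def]; grind
      have e5 : ∀ g x y : Perm α, g * (x * y) * g⁻¹ = (g * x * g⁻¹) * (g * y * g⁻¹) := by
        intro g x y; group
      rw [e5, ← swap_apply_apply, ← swap_apply_apply, e1, e2, e3, e4, mul_inv_rev, swap_inv,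
        swap_inv, mul_assoc, ← mul_assoc (swap v _), swap_mul_self, one_mul, hb']
      ext z
      simp only [c3, Perm.mul_apply, swap_apply_def]
      grind
    refine ⟨_, h3 ▸ mul_mem (mul_mem (mul_mem h1 h2) (inv_mem h1)) (inv_mem h2),
      c3_isThreeCycle (by grind) (by grind) (by grind), ?_⟩
    rw [c3_apply_left (by grind) (by grind)]
    grind

theorem alt_le_of_moves (P : Sylow 2 (Perm α)) {τ : Perm α}
    (h : IsMatch (P : Subgroup (Perm α)) τ) {ω : α} (hω : τ ω = ω) {k : ℕ} (hk : 2 ≤ k)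
    (hn : Fintype.card α = 2 ^ k + 1) {M : Subgroup (Perm α)}
    (hM : ∀ p ∈ (P : Subgroup (Perm α)), sign p = 1 → p ∈ M) {m : Perm α} (hm : m ∈ M)
    (hmω : m ω ≠ ω) : alternatingGroup α ≤ M := by
  have h4 : 2 ^ 2 ≤ 2 ^ k := Nat.pow_le_pow_right (by norm_num) hk
  have hn' : Fintype.card α = 5 ∨ 8 ≤ Fintype.card α := by
    rcases hk.eq_or_lt with rfl | h1
    · exact Or.inl hn
    · have : 2 ^ 3 ≤ 2 ^ k := Nat.pow_le_pow_right (by norm_num) h1
      omega
  obtain ⟨t, ht, ht3, htω⟩ := exists_threeCycle_moves P h hω hn' hM hm hmω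
  have key := closure_eq_alternating (S := {t | t ∈ M ∧ t.IsThreeCycle}) (fun t ht => ht.2)
    ⟨t, ht, ht3⟩ ω (fun a => ?_)
  · rw [← key, Subgroup.closure_le]
    exact fun t ht => ht.1
  by_cases ha : a = ω
  · exact ⟨1, one_mem _, ha.symm⟩
  obtain ⟨p, hp, hpw⟩ := exists_trans_on P (Finset.univ.erase ω) (k := k)
    (fun g hg z => by
      simp only [Finset.mem_erase, Finset.mem_univ, and_true]
      conv_lhs => rw [← h.apply_fix hω hg]
      exact g.injective.ne_iff)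
    (by rw [Finset.card_erase_of_mem (Finset.mem_univ _), Finset.card_univ, hn]; rfl)
    (a := t ω) (b := a) (by simpa using htω) (by simpa using ha)
  obtain ⟨q, hq, hs, hqa⟩ := h.exists_even (by omega) hp (t ω)
  have hqM := hM q hq hs
  refine ⟨q * t * q⁻¹, Subgroup.subset_closure ⟨mul_mem (mul_mem hqM ht) (inv_mem hqM), ?_⟩, ?_⟩
  · exact (card_support_eq_three_iff.1 (by rw [support_conj, Finset.card_map, ht3.card_support]))
  · rw [Perm.mul_apply, Perm.mul_apply, h.apply_fix hω (inv_mem hq), hqa, hpw]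

theorem alt_le_of_star {K : Subgroup (Perm α)} {u v : α} (uv : u ≠ v)
    (h : ∀ i, i ≠ u → i ≠ v → c3 i u v ∈ K) : alternatingGroup α ≤ K := by
  rw [← closure_star_c3 uv, Subgroup.closure_le]
  rintro _ ⟨i, iu, iv, rfl⟩
  exact h i iu iv

theorem sign_c3 {a b c : α} (ab : a ≠ b) (ac : a ≠ c) : sign (c3 a b c) = 1 :=
  sign_swap_mul_swap ac ab

theorem IsMatch.alt_le_of_centralizer {P : Subgroup (Perm α)} {τ : Perm α} (h : IsMatch P τ)
    (h6 : 6 ≤ Fintype.card α) (hτ : ∀ x, τ x ≠ x) {K : Subgroup (Perm α)}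
    (hK : ∀ g ∈ Subgroup.centralizer ({τ} : Set (Perm α)), sign g = 1 → g ∈ K) {a u : α}
    (au : a ≠ u) (au' : a ≠ τ u) (ha : c3 a u (τ u) ∈ K) : alternatingGroup α ≤ K := by
  have tinj : ∀ x y, τ x = τ y ↔ x = y := fun x y => τ.injective.eq_iff
  have i1 := h.invol a
  have i2 := h.invol u
  have n1 := hτ a
  have n2 := hτ u
  refine alt_le_of_star (hτ u).symm fun i iu iu' => ?_
  have i3 := h.invol i
  have n3 := hτ i
  have key : ∀ g ∈ K, g a = i → g u = u → g (τ u) = τ u → c3 i u (τ u) ∈ K := by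
    intro g hg h1 h2 h3
    have := mul_mem (mul_mem hg ha) (inv_mem hg)
    rwa [conj_c3, h1, h2, h3] at this
  by_cases h1 : i = a
  · exact h1 ▸ ha
  by_cases h2 : i = τ a
  · obtain ⟨c, hc, hc1, hc2⟩ := h.exists_avoid {a, u}
      (by have := Finset.card_le_two (a := a) (b := u); omega)
    simp only [Finset.mem_singleton, Finset.mem_insert, not_or] at hc1 hc2
    have i4 := h.invol c
    refine key (swap a (τ a) * swap c (τ c)) (hK _ (h.le_centralizer
      (mul_mem (h.swap_mem a) (h.swap_mem c))) (sign_swap_mul_swap n1.symm hc.symm)) ?_ ?_ ?_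
    all_goals
      simp only [Perm.mul_apply, swap_apply_def]
      grind
  · refine key (swap a i * swap (τ a) (τ i)) (hK _ (mem_centralizer_of_comm fun x => ?_)
      (sign_swap_mul_swap (Ne.symm h1) (by grind))) ?_ ?_ ?_
    · have i4 := h.invol x
      simp only [Perm.mul_apply, swap_apply_def]
      grind
    all_goals
      simp only [Perm.mul_apply, swap_apply_def]
      grind

/-- The stabiliser of the partition given by a predicate. -/
def halfStab (H : α → Prop) : Subgroup (Perm α) where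
  carrier := {g | ∀ x y, (H (g x) ↔ H (g y)) ↔ (H x ↔ H y)}
  one_mem' := fun _ _ => Iff.rfl
  mul_mem' := fun {a b} ha hb x y => (ha (b x) (b y)).trans (hb x y)
  inv_mem' := fun {a} ha x y => by
    have := ha (a⁻¹ x) (a⁻¹ y)
    rw [papply_inv, papply_inv] at this
    exact this.symm

theorem iff_cancel_aux (A B C : Prop) : ((A ↔ B) ↔ (A ↔ C)) ↔ (B ↔ C) := by tauto

theorem exists_halves {P : Subgroup (Perm α)} (hP : IsPGroup 2 P) (h2 : 2 ≤ Fintype.card α) :
    ∃ H : α → Prop, (∃ x, H x) ∧ (∃ x, ¬ H x) ∧ P ≤ halfStab H := by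
  obtain ⟨a, b, ab⟩ := Fintype.exists_pair_of_one_lt_card h2
  by_cases htr : ∀ x, ∃ p ∈ P, p a = x
  · have h1 : stabilizer P a ≠ ⊤ := by
      intro h3
      obtain ⟨p, hp, hpa⟩ := htr b
      have : (⟨p, hp⟩ : P) ∈ stabilizer P a := h3 ▸ Subgroup.mem_top _
      exact ab (this.symm.trans hpa)
    obtain ⟨Q, hQ, hi⟩ := exists_index_prime_ge hP h1
    have key : ∀ p : P, (∃ q ∈ Q, q.1 a = p.1 a) ↔ p ∈ Q := by
      intro p
      refine ⟨fun ⟨q, hq, h3⟩ => ?_, fun hp => ⟨p, hp, rfl⟩⟩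
      have h4 : q⁻¹ * p ∈ Q := hQ (by
        change q.1⁻¹ (p.1 a) = a
        rw [← h3, pinv_apply])
      simpa using mul_mem hq h4
    refine ⟨fun x => ∃ q ∈ Q, q.1 a = x, ⟨a, 1, one_mem _, rfl⟩, ?_, fun g hg x y => ?_⟩
    · have h3 : Q ≠ ⊤ := fun h4 => by simp [h4] at hi
      obtain ⟨p, hp⟩ : ∃ p, p ∉ Q := by
        by_contra h5
        push Not at h5
        exact h3 (eq_top_iff.2 fun x _ => h5 x)
      exact ⟨p.1 a, fun h6 => hp ((key p).1 h6)⟩
    · obtain ⟨p, hp, rfl⟩ := htr x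
      obtain ⟨q, hq, rfl⟩ := htr y
      have e1 := key (⟨g, hg⟩ * ⟨p, hp⟩)
      have e2 := key (⟨g, hg⟩ * ⟨q, hq⟩)
      have e3 := key ⟨p, hp⟩
      have e4 := key ⟨q, hq⟩
      rw [Subgroup.mul_mem_iff_of_index_two hi] at e1 e2
      simp only [Subgroup.coe_mul, Perm.mul_apply] at e1 e2 e3 e4
      beta_reduce
      rw [e1, e2, e3, e4]
      exact iff_cancel_aux _ _ _
  · push Not at htr
    obtain ⟨z, hz⟩ := htr
    refine ⟨fun x => ∃ p ∈ P, p a = x, ⟨a, 1, one_mem _, rfl⟩, ⟨z, fun ⟨p, hp, h⟩ => hz p hp h⟩,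
      fun g hg x y => ?_⟩
    have key : ∀ x, (∃ p ∈ P, p a = g x) ↔ ∃ p ∈ P, p a = x := fun x =>
      ⟨fun ⟨p, hp, h⟩ => ⟨g⁻¹ * p, mul_mem (inv_mem hg) hp, by
        rw [Perm.mul_apply, h, pinv_apply]⟩,
       fun ⟨p, hp, h⟩ => ⟨g * p, mul_mem hg hp, by rw [Perm.mul_apply, h]⟩⟩
    simp only [key]

omit [DecidableEq α] in
theorem exists_three_of_pred (h5 : 5 ≤ Fintype.card α) (H : α → Prop) :
    (∃ a b c, a ≠ b ∧ a ≠ c ∧ b ≠ c ∧ H a ∧ H b ∧ H c) ∨
      (∃ a b c, a ≠ b ∧ a ≠ c ∧ b ≠ c ∧ ¬ H a ∧ ¬ H b ∧ ¬ H c) := by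
  classical
  have h1 := Finset.card_filter_add_card_filter_not (s := Finset.univ) H
  rw [Finset.card_univ] at h1
  by_cases h2 : 2 < (Finset.univ.filter H).card
  · obtain ⟨a, b, c, ha, hb, hc, h⟩ := Finset.two_lt_card_iff.1 h2
    exact Or.inl ⟨a, b, c, h.1, h.2.1, h.2.2, by simpa using ha, by simpa using hb,
      by simpa using hc⟩
  · obtain ⟨a, b, c, ha, hb, hc, h⟩ := Finset.two_lt_card_iff.1
      (show 2 < (Finset.univ.filter fun x => ¬ H x).card by omega)
    exact Or.inr ⟨a, b, c, h.1, h.2.1, h.2.2, by simpa using ha, by simpa using hb,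
      by simpa using hc⟩

theorem two_overgroups_even {P : Subgroup (Perm α)} {τ : Perm α} (h : IsMatch P τ)
    (h6 : 6 ≤ Fintype.card α) (hτ : ∀ x, τ x ≠ x) {H : α → Prop} (hH : P ≤ halfStab H)
    {z : α} (hz : ¬ H z) {a b c : α} (ab : a ≠ b) (ac : a ≠ c) (bc : b ≠ c) (ha : H a) (hb : H b)
    (hc : H c) : ∃ A B : Subgroup (Perm α), P ≤ A ∧ P ≤ B ∧ ¬ alternatingGroup α ≤ A ∧
      ¬ alternatingGroup α ≤ B ∧ ∀ K : Subgroup (Perm α), (∀ g ∈ A, sign g = 1 → g ∈ K) →
        (∀ g ∈ B, sign g = 1 → g ∈ K) → alternatingGroup α ≤ K := by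
  obtain ⟨d, hd, da, da'⟩ : ∃ d, H d ∧ d ≠ a ∧ d ≠ τ a := by
    by_cases h1 : b = τ a
    · exact ⟨c, hc, ac.symm, fun h2 => bc (h1.trans h2.symm)⟩
    · exact ⟨b, hb, ab.symm, h1⟩
  have hτa : H (τ a) := by
    have := hH (h.swap_mem a) a d
    rw [swap_apply_left, swap_apply_of_ne_of_ne da da'] at this
    tauto
  have n1 := hτ a
  have i1 := h.invol a
  refine ⟨_, _, h.le_centralizer, hH, fun h1 => ?_, fun h1 => ?_, fun K hA hB => ?_⟩
  · have h2 := h1 (mem_alternatingGroup.2 (sign_c3 da da'))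
    have h3 := congrArg (fun f : Perm α => f a) (Subgroup.mem_centralizer_singleton_iff.mp h2)
    simp only [Perm.mul_apply, c3_apply_mid, c3_apply_right da' n1.symm, i1] at h3
    exact da h3
  · have az : a ≠ z := fun h2 => hz (h2 ▸ ha)
    have bz : b ≠ z := fun h2 => hz (h2 ▸ hb)
    have h2 := h1 (mem_alternatingGroup.2 (sign_c3 ab az)) a b
    rw [c3_apply_left ab bz, c3_apply_mid] at h2
    tauto
  · refine h.alt_le_of_centralizer h6 hτ hA da da' (hB _ (fun x y => ?_) (sign_c3 da da'))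
    have key : ∀ x, H (c3 d a (τ a) x) ↔ H x := by
      intro x
      simp only [c3, Perm.mul_apply, swap_apply_def]
      grind
    rw [key, key]

theorem two_overgroups (P : Sylow 2 (Perm α)) (h5 : 5 ≤ Fintype.card α)
    (hn : ¬ ∃ k, 2 ≤ k ∧ Fintype.card α = 2 ^ k + 1) :
    ∃ A B : Subgroup (Perm α), (P : Subgroup (Perm α)) ≤ A ∧ (P : Subgroup (Perm α)) ≤ B ∧
      ¬ alternatingGroup α ≤ A ∧
      ¬ alternatingGroup α ≤ B ∧ ∀ K : Subgroup (Perm α), (∀ g ∈ A, sign g = 1 → g ∈ K) →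
        (∀ g ∈ B, sign g = 1 → g ∈ K) → alternatingGroup α ≤ K := by
  obtain ⟨τ, h⟩ := exists_isMatch P
  rcases Nat.even_or_odd (Fintype.card α) with he | ho
  · have h6 : 6 ≤ Fintype.card α := by obtain ⟨r, hr⟩ := he; omega
    obtain ⟨H, ⟨x, hx⟩, ⟨y, hy⟩, hH⟩ := exists_halves P.isPGroup' (by omega)
    rcases exists_three_of_pred h5 H with ⟨a, b, c, ab, ac, bc, ha, hb, hc⟩ |
      ⟨a, b, c, ab, ac, bc, ha, hb, hc⟩
    · exact two_overgroups_even h h6 (h.no_fix he) hH hy ab ac bc ha hb hc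
    · exact two_overgroups_even h h6 (h.no_fix he) (H := fun x => ¬ H x)
        (fun g hg x y => by have := hH hg x y; tauto) (not_not.2 hx) ab ac bc ha hb hc
  obtain ⟨ω, hω⟩ := h.exists_fix ho
  obtain ⟨a, ha, ha1, -⟩ := h.exists_avoid {ω} (by simp; omega)
  simp only [Finset.mem_singleton] at ha1
  have hO : ∃ z, z ≠ ω ∧ z ∉ orbit (P : Subgroup (Perm α)) a := by
    by_contra h1
    push Not at h1
    have h2 : orbit (P : Subgroup (Perm α)) a = {ω}ᶜ := by
      ext z
      refine ⟨?_, h1 z⟩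
      rintro ⟨p, rfl⟩ h3
      exact ha1 (p.1.injective ((show p.1 a = ω from h3).trans (h.apply_fix hω p.2).symm))
    obtain ⟨k, hk⟩ := P.isPGroup'.card_orbit a
    rw [h2, Nat.card_coe_set_eq, Set.ncard_compl, Set.ncard_singleton, Nat.card_eq_fintype_card]
      at hk
    refine hn ⟨k, ?_, by omega⟩
    by_contra h3
    have : k = 0 ∨ k = 1 := by omega
    rcases this with rfl | rfl <;> omega
  obtain ⟨z, hz1, hz⟩ := hO
  have hz2 : τ z ≠ z := fun h1 => hz1 (h.fix _ _ h1 hω)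
  have hz3 : τ z ≠ ω := fun h1 => hz1 (by rw [← h.invol z, h1, hω])
  have inv : ∀ g ∈ (P : Subgroup (Perm α)), ∀ x, g x ∈ orbit (P : Subgroup (Perm α)) a ↔
      x ∈ orbit (P : Subgroup (Perm α)) a := fun g hg x =>
    ⟨fun h1 => pinv_apply g x ▸ mem_orbit_of_mem_orbit (⟨g, hg⟩⁻¹ : (P : Subgroup (Perm α))) h1,
      fun h1 => mem_orbit_of_mem_orbit (⟨g, hg⟩ : (P : Subgroup (Perm α))) h1⟩
  have hz4 : τ z ∉ orbit (P : Subgroup (Perm α)) a := by
    have := inv _ (h.swap_mem z) z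
    rw [swap_apply_left] at this
    exact fun h1 => hz (this.1 h1)
  have hω2 : ω ∉ orbit (P : Subgroup (Perm α)) a := by
    rintro ⟨p, h3⟩
    exact ha1 (p.1.injective ((show p.1 a = ω from h3).trans (h.apply_fix hω p.2).symm))
  have hD : ∀ g : Perm α, g ∈ stabilizer (Perm α) (orbit (P : Subgroup (Perm α)) a) ↔
      ∀ x, g x ∈ orbit (P : Subgroup (Perm α)) a ↔ x ∈ orbit (P : Subgroup (Perm α)) a := by
    intro g
    simp only [mem_stabilizer_set, Perm.smul_def]
  have az : a ≠ z := fun h1 => hz (h1 ▸ mem_orbit_self a)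
  refine ⟨stabilizer (Perm α) ω, stabilizer (Perm α) (orbit (P : Subgroup (Perm α)) a),
    fun g hg => h.apply_fix hω hg, fun g hg => (hD g).2 (inv g hg), fun h1 => ?_, fun h1 => ?_,
    fun K hA hB => ?_⟩
  · have h2 : c3 ω z (τ z) ω = ω := h1 (mem_alternatingGroup.2 (sign_c3 hz1.symm hz3.symm))
    rw [c3_apply_left hz1.symm hz2.symm] at h2
    exact hz1 h2
  · have h2 := (hD _).1 (h1 (mem_alternatingGroup.2 (sign_c3 az ha1))) a
    rw [c3_apply_left az hz1] at h2
    exact hz (h2.2 (mem_orbit_self a))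
  · refine alt_le_of_star hz2.symm fun i iz iz' => ?_
    by_cases h1 : i = ω
    · subst h1
      refine hB _ ((hD _).2 fun x => ?_) (sign_c3 iz iz')
      simp only [c3, Perm.mul_apply, swap_apply_def]
      grind
    · exact hA _ (c3_apply_of_ne (Ne.symm h1) hz1.symm hz3.symm) (sign_c3 iz iz')

end Cfsg.Agent.Alt
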